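import Groth.Agent.ChowLib.ProjPt
import Mathlib.AlgebraicGeometry.Morphisms.Separated

/-!
# The Segre closed immersion `P^n_S ×_S P^m_S ⟶ P^{nm+n+m}_S`
-/

universe u

open CategoryTheory CategoryTheory.Limits AlgebraicGeometry

noncomputable section

namespace ChowLib

variable (n m : ℕ)

/-- numbering of pairs of indices -/
def pairIdx : Fin (n + 1) × Fin (m + 1) ≃ Fin (n * m + n + m + 1) :=
  finProdFinEquiv.trans (finCongr (by ring))

/-- `P^n_ℤ ×_ℤ P^m_ℤ` -/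
abbrev Q : Scheme.{u} :=
  pullback (CohB1.ProjSpace.toSpec n Z.{u}) (CohB1.ProjSpace.toSpec m Z.{u})

variable {n m}

variable {Y : Scheme.{u}}

/-- products of coordinates -/
def pairVec (v : Fin (n + 1) → Γ(Y, ⊤)) (w : Fin (m + 1) → Γ(Y, ⊤)) :
    Fin (n * m + n + m + 1) → Γ(Y, ⊤) :=
  fun j => v ((pairIdx n m).symm j).1 * w ((pairIdx n m).symm j).2

lemma pairVec_apply (v : Fin (n + 1) → Γ(Y, ⊤)) (w : Fin (m + 1) → Γ(Y, ⊤)) (a : Fin (n + 1))
    (b : Fin (m + 1)) : pairVec v w (pairIdx n m (a, b)) = v a * w b := by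
  simp [pairVec]

lemma isUnit_pairVec (v : Fin (n + 1) → Γ(Y, ⊤)) (w : Fin (m + 1) → Γ(Y, ⊤)) {a : Fin (n + 1)}
    {b : Fin (m + 1)} (ha : IsUnit (v a)) (hb : IsUnit (w b)) :
    IsUnit (pairVec v w (pairIdx n m (a, b))) := by
  rw [pairVec_apply]; exact ha.mul hb

lemma pt_pairVec_congr {v v' : Fin (n + 1) → Γ(Y, ⊤)} {w w' : Fin (m + 1) → Γ(Y, ⊤)}
    {a a' : Fin (n + 1)} {b b' : Fin (m + 1)} (ha : IsUnit (v a)) (hb : IsUnit (w b))
    (ha' : IsUnit (v' a')) (hb' : IsUnit (w' b')) (hv : pt v a ha = pt v' a' ha')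
    (hw : pt w b hb = pt w' b' hb') :
    pt (pairVec v w) (pairIdx n m (a, b)) (isUnit_pairVec v w ha hb) =
      pt (pairVec v' w') (pairIdx n m (a', b')) (isUnit_pairVec v' w' ha' hb') := by
  refine pt_eq_of_prop _ _ _ _ _ _
    (isUnit_pairVec v w (isUnit_of_pt_eq v v' a a' ha ha' hv)
      (isUnit_of_pt_eq w w' b b' hb hb' hw)) fun j => ?_
  have h1 := prop_of_pt_eq v v' a a' ha ha' hv ((pairIdx n m).symm j).1
  have h2 := prop_of_pt_eq w w' b b' hb hb' hw ((pairIdx n m).symm j).2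
  rw [pairVec_apply, pairVec_apply]
  simp only [pairVec]
  calc _ = v ((pairIdx n m).symm j).1 * v' a' * (w ((pairIdx n m).symm j).2 * w' b') := by ring
    _ = _ := by rw [h1, h2]; ring

/-- the products of standard opens -/
def segreOpen (c : Fin (n + 1) × Fin (m + 1)) : (Q.{u} n m).Opens :=
  pullback.fst (CohB1.ProjSpace.toSpec n Z.{u}) (CohB1.ProjSpace.toSpec m Z.{u}) ⁻¹ᵁ Dplus c.1 ⊓
    pullback.snd (CohB1.ProjSpace.toSpec n Z.{u}) (CohB1.ProjSpace.toSpec m Z.{u}) ⁻¹ᵁ Dplus c.2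

lemma iSup_segreOpen : ⨆ c, segreOpen.{u} (n := n) (m := m) c = ⊤ := by
  rw [eq_top_iff]
  intro x _
  have h1 : pullback.fst (CohB1.ProjSpace.toSpec n Z.{u}) (CohB1.ProjSpace.toSpec m Z.{u}) x ∈
      (⨆ i, Dplus.{u} (n := n) i) := by rw [iSup_Dplus]; trivial
  have h2 : pullback.snd (CohB1.ProjSpace.toSpec n Z.{u}) (CohB1.ProjSpace.toSpec m Z.{u}) x ∈
      (⨆ i, Dplus.{u} (n := m) i) := by rw [iSup_Dplus]; trivial
  obtain ⟨a, ha⟩ := TopologicalSpace.Opens.mem_iSup.mp h1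
  obtain ⟨b, hb⟩ := TopologicalSpace.Opens.mem_iSup.mp h2
  exact TopologicalSpace.Opens.mem_iSup.mpr ⟨(a, b), ha, hb⟩

/-- coordinates of a point of `Q` lying in `segreOpen (a, b)` -/
lemma exists_pts (x : Y ⟶ Q.{u} n m) (c : Fin (n + 1) × Fin (m + 1))
    (h : x ⁻¹ᵁ segreOpen c = ⊤) :
    ∃ (v : Fin (n + 1) → Γ(Y, ⊤)) (w : Fin (m + 1) → Γ(Y, ⊤)) (hv : IsUnit (v c.1))
      (hw : IsUnit (w c.2)),
      x ≫ pullback.fst _ _ = pt v c.1 hv ∧ x ≫ pullback.snd _ _ = pt w c.2 hw := by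
  obtain ⟨v, hv, e1, -⟩ := exists_pt (x ≫ pullback.fst (CohB1.ProjSpace.toSpec n Z.{u})
    (CohB1.ProjSpace.toSpec m Z.{u})) c.1 (top_le_iff.mp (h ▸ x.preimage_mono inf_le_left))
  obtain ⟨w, hw, e2, -⟩ := exists_pt (x ≫ pullback.snd (CohB1.ProjSpace.toSpec n Z.{u})
    (CohB1.ProjSpace.toSpec m Z.{u})) c.2 (top_le_iff.mp (h ▸ x.preimage_mono inf_le_right))
  exact ⟨v, w, hv, hw, e1, e2⟩

lemma preimage_ι_self {X : Scheme.{u}} (U : X.Opens) : U.ι ⁻¹ᵁ U = ⊤ := by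
  ext x; simp

/-- the chart of the Segre map on `segreOpen c` -/
def segreLoc (c : Fin (n + 1) × Fin (m + 1)) :
    (segreOpen.{u} c).toScheme ⟶ PZ.{u} (n * m + n + m) :=
  let h := exists_pts (segreOpen.{u} c).ι c (preimage_ι_self _)
  pt (pairVec h.choose h.choose_spec.choose) (pairIdx n m c)
    (isUnit_pairVec _ _ h.choose_spec.choose_spec.choose
      h.choose_spec.choose_spec.choose_spec.choose)

lemma comp_segreLoc {c : Fin (n + 1) × Fin (m + 1)} (x : Y ⟶ (segreOpen.{u} c).toScheme)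
    (v : Fin (n + 1) → Γ(Y, ⊤)) (w : Fin (m + 1) → Γ(Y, ⊤)) {a : Fin (n + 1)} {b : Fin (m + 1)}
    (hv : IsUnit (v a)) (hw : IsUnit (w b))
    (e1 : x ≫ (segreOpen.{u} c).ι ≫ pullback.fst _ _ = pt v a hv)
    (e2 : x ≫ (segreOpen.{u} c).ι ≫ pullback.snd _ _ = pt w b hw) :
    x ≫ segreLoc c = pt (pairVec v w) (pairIdx n m (a, b)) (isUnit_pairVec v w hv hw) := by
  let h := exists_pts (segreOpen.{u} c).ι c (preimage_ι_self _)
  obtain ⟨h1, h2⟩ := h.choose_spec.choose_spec.choose_spec.choose_spec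
  rw [h1, comp_pt] at e1
  rw [h2, comp_pt] at e2
  have := pt_pairVec_congr _ _ _ _ e1 e2
  rw [segreLoc, comp_pt]
  convert this using 2
  ext j
  simp [pairVec]

/-- the Segre map over `ℤ` -/
def segreZ : Q.{u} n m ⟶ PZ.{u} (n * m + n + m) :=
  ((Q.{u} n m).openCoverOfIsOpenCover segreOpen
    (iSup_segreOpen.{u} (n := n) (m := m))).glueMorphisms segreLoc fun c d => by
    obtain ⟨v, w, hv, hw, e1, e2⟩ := exists_pts
      (pullback.fst (segreOpen.{u} c).ι (segreOpen.{u} d).ι ≫ (segreOpen.{u} c).ι) c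
      (by rw [Scheme.Hom.comp_preimage, preimage_ι_self]; rfl)
    simp only [Category.assoc] at e1 e2
    refine (comp_segreLoc _ v w hv hw e1 e2).trans (comp_segreLoc _ v w hv hw ?_ ?_).symm
    · exact (pullback.condition_assoc _).symm.trans e1
    · exact (pullback.condition_assoc _).symm.trans e2

lemma ι_segreZ (c : Fin (n + 1) × Fin (m + 1)) :
    (segreOpen.{u} c).ι ≫ segreZ = segreLoc c :=
  ((Q.{u} n m).openCoverOfIsOpenCover segreOpen
    (iSup_segreOpen.{u} (n := n) (m := m))).ι_glueMorphisms _ _ c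

lemma comp_segreZ (x : Y ⟶ Q.{u} n m)
    (v : Fin (n + 1) → Γ(Y, ⊤)) (w : Fin (m + 1) → Γ(Y, ⊤)) {a : Fin (n + 1)} {b : Fin (m + 1)}
    (hv : IsUnit (v a)) (hw : IsUnit (w b))
    (e1 : x ≫ pullback.fst _ _ = pt v a hv) (e2 : x ≫ pullback.snd _ _ = pt w b hw) :
    x ≫ segreZ = pt (pairVec v w) (pairIdx n m (a, b)) (isUnit_pairVec v w hv hw) := by
  have hx : x ⁻¹ᵁ segreOpen (a, b) = ⊤ := by
    change (x ≫ pullback.fst _ _) ⁻¹ᵁ Dplus a ⊓ (x ≫ pullback.snd _ _) ⁻¹ᵁ Dplus b = ⊤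
    rw [e1, e2, pt_preimage, pt_preimage, Y.basicOpen_of_isUnit hv, Y.basicOpen_of_isUnit hw,
      inf_top_eq]
  have hr : Set.range x ⊆ Set.range (segreOpen.{u} (a, b)).ι := by
    rintro _ ⟨y, rfl⟩
    have : y ∈ x ⁻¹ᵁ segreOpen (a, b) := by rw [hx]; trivial
    simpa using this
  rw [← IsOpenImmersion.lift_fac (segreOpen.{u} (a, b)).ι x hr, Category.assoc, ι_segreZ]
  apply comp_segreLoc
  · rw [IsOpenImmersion.lift_fac_assoc, e1]
  · rw [IsOpenImmersion.lift_fac_assoc, e2]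

lemma segreZ_preimage (a : Fin (n + 1)) (b : Fin (m + 1)) :
    segreZ ⁻¹ᵁ Dplus (pairIdx n m (a, b)) = segreOpen.{u} (a, b) := by
  ext x
  have hx : x ∈ (⨆ c, segreOpen.{u} (n := n) (m := m) c) := by rw [iSup_segreOpen]; trivial
  obtain ⟨c, hc⟩ := TopologicalSpace.Opens.mem_iSup.mp hx
  obtain ⟨v, w, hv, hw, e1, e2⟩ := exists_pts (segreOpen.{u} c).ι c (preimage_ι_self _)
  let y : (segreOpen.{u} c).toScheme := ⟨x, hc⟩
  change y ∈ ((segreOpen.{u} c).ι ≫ segreZ) ⁻¹ᵁ Dplus (pairIdx n m (a, b)) ↔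
    y ∈ ((segreOpen.{u} c).ι ≫ pullback.fst _ _) ⁻¹ᵁ Dplus a ⊓
      ((segreOpen.{u} c).ι ≫ pullback.snd _ _) ⁻¹ᵁ Dplus b
  rw [comp_segreZ _ v w hv hw e1 e2, e1, e2, pt_preimage, pt_preimage, pt_preimage, pairVec_apply,
    Scheme.basicOpen_mul]

lemma isClosedImmersion_segreZ : IsClosedImmersion (segreZ.{u} (n := n) (m := m)) := by
  have hsup : ⨆ c, Dplus.{u} (pairIdx n m c) = ⊤ := by
    rw [Equiv.iSup_comp (pairIdx n m) (g := Dplus.{u}), iSup_Dplus]
  refine IsZariskiLocalAtTarget.of_iSup_eq_top (P := @IsClosedImmersion) _ hsup fun c => ?_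
  obtain ⟨a, b⟩ := c
  let D := Dplus.{u} (pairIdx n m (a, b))
  have : IsAffine D.toScheme := isAffineOpen_Dplus _
  obtain ⟨z, hz, ez, hz1⟩ := exists_pt D.ι (pairIdx n m (a, b)) (preimage_ι_self _)
  let q1 : D.toScheme ⟶ PZ.{u} n := pt (fun k => z (pairIdx n m (k, b))) a hz
  let q2 : D.toScheme ⟶ PZ.{u} m := pt (fun l => z (pairIdx n m (a, l))) b hz
  let q : D.toScheme ⟶ Q.{u} n m :=
    pullback.lift q1 q2 (specULiftZIsTerminal.hom_ext _ _)
  have hq : q ⁻¹ᵁ segreOpen (a, b) = ⊤ := by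
    change (q ≫ pullback.fst _ _) ⁻¹ᵁ Dplus a ⊓ (q ≫ pullback.snd _ _) ⁻¹ᵁ Dplus b = ⊤
    simp only [q, pullback.lift_fst, pullback.lift_snd, q1, q2, pt_preimage,
      Scheme.basicOpen_of_isUnit _ hz, inf_top_eq]
  have hqr : Set.range q ⊆ Set.range (segreOpen.{u} (a, b)).ι := by
    rintro _ ⟨y, rfl⟩
    have : y ∈ q ⁻¹ᵁ segreOpen (a, b) := by rw [hq]; trivial
    simpa using this
  let q' := IsOpenImmersion.lift (segreOpen.{u} (a, b)).ι q hqr
  let W := segreZ.{u} (n := n) (m := m) ⁻¹ᵁ D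
  let τ : W.toScheme ⟶ D.toScheme := segreZ ∣_ D
  have hW : W = segreOpen.{u} (a, b) := segreZ_preimage a b
  obtain ⟨v, w, hv, hw, e1, e2⟩ := exists_pts W.ι (a, b) (by rw [← hW]; exact preimage_ι_self _)
  have hpt : W.ι ≫ segreZ = τ ≫ D.ι := (morphismRestrict_ι _ _).symm
  rw [comp_segreZ _ v w hv hw e1 e2, ez, comp_pt] at hpt
  have hp := prop_of_pt_eq _ _ _ _ _ _ hpt
  have hq' : τ ≫ q = W.ι := by
    apply pullback.hom_ext
    · rw [Category.assoc, pullback.lift_fst, e1, comp_pt, pt_eq_iff_same]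
      intro k
      have := hp (pairIdx n m (k, b))
      rw [pairVec_apply, pairVec_apply] at this
      refine hw.mul_right_cancel ?_
      simp only [] at this ⊢
      linear_combination -this
    · rw [Category.assoc, pullback.lift_snd, e2, comp_pt, pt_eq_iff_same]
      intro l
      have := hp (pairIdx n m (a, l))
      rw [pairVec_apply, pairVec_apply] at this
      refine hv.mul_right_cancel ?_
      simp only [] at this ⊢
      linear_combination -this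
  have hτq : τ ≫ q' = ((Q.{u} n m).isoOfEq hW).hom := by
    rw [← cancel_mono (segreOpen.{u} (a, b)).ι]
    simp [q', hq']
  have : IsClosedImmersion (τ ≫ q') := by rw [hτq]; infer_instance
  exact IsClosedImmersion.of_comp τ q'

/-! ### over a base -/

variable (S : Scheme.{u})

/-- projection to `P^n_ℤ` -/
def toPZ (n : ℕ) (S : Scheme.{u}) : CohB1.ProjSpaceOver n S ⟶ PZ.{u} n := pullback.fst _ _

/-- points of `P^n_S` -/
def poLift {n : ℕ} {S : Scheme.{u}} (a : Y ⟶ PZ.{u} n) (b : Y ⟶ S) :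
    Y ⟶ CohB1.ProjSpaceOver n S :=
  pullback.lift a b (specULiftZIsTerminal.hom_ext _ _)

@[reassoc (attr := simp)]
lemma poLift_toPZ {n : ℕ} {S : Scheme.{u}} (a : Y ⟶ PZ.{u} n) (b : Y ⟶ S) :
    poLift a b ≫ toPZ n S = a := pullback.lift_fst _ _ _

@[reassoc (attr := simp)]
lemma poLift_toBase {n : ℕ} {S : Scheme.{u}} (a : Y ⟶ PZ.{u} n) (b : Y ⟶ S) :
    poLift a b ≫ CohB1.ProjSpaceOver.toBase n S = b := pullback.lift_snd _ _ _

lemma po_ext {n : ℕ} {S : Scheme.{u}} {a b : Y ⟶ CohB1.ProjSpaceOver n S}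
    (h1 : a ≫ toPZ n S = b ≫ toPZ n S)
    (h2 : a ≫ CohB1.ProjSpaceOver.toBase n S = b ≫ CohB1.ProjSpaceOver.toBase n S) : a = b :=
  pullback.hom_ext h1 h2

lemma isPullback_po (n : ℕ) (S : Scheme.{u}) :
    IsPullback (toPZ n S) (CohB1.ProjSpaceOver.toBase n S)
      (CohB1.ProjSpace.toSpec n Z.{u}) (specULiftZIsTerminal.from S) :=
  IsPullback.of_hasPullback _ _

/-- `P^n_S ×_S P^m_S ⟶ P^n_ℤ × P^m_ℤ` -/
def toQ (n m : ℕ) :
    pullback (CohB1.ProjSpaceOver.toBase n S) (CohB1.ProjSpaceOver.toBase m S) ⟶ Q.{u} n m :=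
  pullback.lift (pullback.fst _ _ ≫ toPZ n S) (pullback.snd _ _ ≫ toPZ m S)
    (specULiftZIsTerminal.hom_ext _ _)

/-- the Segre map over `S` -/
def segre (n m : ℕ) : pullback (CohB1.ProjSpaceOver.toBase n S) (CohB1.ProjSpaceOver.toBase m S) ⟶
    CohB1.ProjSpaceOver (n * m + n + m) S :=
  poLift (toQ S n m ≫ segreZ) (pullback.fst _ _ ≫ CohB1.ProjSpaceOver.toBase n S)

lemma segre_toBase (n m : ℕ) :
    segre S n m ≫ CohB1.ProjSpaceOver.toBase (n * m + n + m) S =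
      pullback.fst _ _ ≫ CohB1.ProjSpaceOver.toBase n S := poLift_toBase _ _

@[reassoc]
lemma toQ_fst (n m : ℕ) :
    toQ S n m ≫ pullback.fst _ _ =
      pullback.fst (CohB1.ProjSpaceOver.toBase n S) (CohB1.ProjSpaceOver.toBase m S) ≫ toPZ n S :=
  pullback.lift_fst _ _ _

@[reassoc]
lemma toQ_snd (n m : ℕ) :
    toQ S n m ≫ pullback.snd _ _ =
      pullback.snd (CohB1.ProjSpaceOver.toBase n S) (CohB1.ProjSpaceOver.toBase m S) ≫ toPZ m S :=
  pullback.lift_snd _ _ _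

/-- points of `P^n_S ×_S P^m_S` -/
def ppLift {n m : ℕ} {S : Scheme.{u}} (x : Y ⟶ Q.{u} n m) (b : Y ⟶ S) :
    Y ⟶ pullback (CohB1.ProjSpaceOver.toBase n S) (CohB1.ProjSpaceOver.toBase m S) :=
  pullback.lift (poLift (x ≫ pullback.fst _ _) b) (poLift (x ≫ pullback.snd _ _) b)
    (by rw [poLift_toBase, poLift_toBase])

lemma ppLift_fst {n m : ℕ} {S : Scheme.{u}} (x : Y ⟶ Q.{u} n m) (b : Y ⟶ S) :
    ppLift x b ≫ pullback.fst _ _ = poLift (x ≫ pullback.fst _ _) b := pullback.lift_fst _ _ _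

lemma ppLift_snd {n m : ℕ} {S : Scheme.{u}} (x : Y ⟶ Q.{u} n m) (b : Y ⟶ S) :
    ppLift x b ≫ pullback.snd _ _ = poLift (x ≫ pullback.snd _ _) b := pullback.lift_snd _ _ _

lemma isPullback_toQ (n m : ℕ) :
    IsPullback (toQ S n m)
      (pullback.fst (CohB1.ProjSpaceOver.toBase n S) (CohB1.ProjSpaceOver.toBase m S) ≫
        CohB1.ProjSpaceOver.toBase n S)
      (segreZ ≫ CohB1.ProjSpace.toSpec (n * m + n + m) Z.{u}) (specULiftZIsTerminal.from S) := by
  refine IsPullback.of_isLimit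
    (c := PullbackCone.mk (toQ S n m) _ (specULiftZIsTerminal.hom_ext _ _)) ?_
  refine PullbackCone.IsLimit.mk _ (fun s => ppLift s.fst s.snd) ?_ ?_ ?_
  · intro s
    apply pullback.hom_ext
    · rw [Category.assoc, toQ_fst, ← Category.assoc, ppLift_fst, poLift_toPZ]
    · rw [Category.assoc, toQ_snd, ← Category.assoc, ppLift_snd, poLift_toPZ]
  · intro s
    rw [← Category.assoc, ppLift_fst, poLift_toBase]
  · intro s l h1 h2
    apply pullback.hom_ext
    · apply po_ext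
      · rw [ppLift_fst, poLift_toPZ, ← h1, Category.assoc, Category.assoc, toQ_fst]
      · rw [ppLift_fst, poLift_toBase, Category.assoc, h2]
    · apply po_ext
      · rw [ppLift_snd, poLift_toPZ, ← h1, Category.assoc, Category.assoc, toQ_snd]
      · rw [ppLift_snd, poLift_toBase, Category.assoc, ← pullback.condition, h2]

instance isClosedImmersion_segre (n m : ℕ) : IsClosedImmersion (segre S n m) := by
  have sq : IsPullback (toQ S n m) (segre S n m) segreZ (toPZ (n * m + n + m) S) := by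
    refine IsPullback.of_bot ?_ ?_ (isPullback_po (n * m + n + m) S)
    · rw [segre_toBase]; exact isPullback_toQ S n m
    · simp [segre]
  exact MorphismProperty.of_isPullback sq isClosedImmersion_segreZ

end ChowLib

end
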