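import Mathlib.AlgebraicGeometry.Morphisms.SchemeTheoreticallyDominant
import Mathlib.AlgebraicGeometry.Morphisms.Separated
import Mathlib.AlgebraicGeometry.Morphisms.Immersion

/-!
# Scheme-theoretically dominant morphisms: factorisation, uniqueness, locality;
# immersions recognised on an open family of the target
-/

universe u

open CategoryTheory CategoryTheory.Limits AlgebraicGeometry

noncomputable section

namespace ChowLib

variable {X Y W S : Scheme.{u}}

instance schDom_toImage (f : X ⟶ Y) [QuasiCompact f] :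
    IsSchemeTheoreticallyDominant f.toImage := by
  refine ⟨Scheme.IdealSheafData.ext_of_iSup_eq_top
    (fun U : Y.affineOpens => ⟨f.imageι ⁻¹ᵁ U, U.2.preimage f.imageι⟩) ?_ fun U => ?_⟩
  · simp only [← Scheme.Hom.preimage_iSup, iSup_affineOpens_eq_top]; rfl
  · rw [Scheme.Hom.ker_apply]
    simp only [Scheme.IdealSheafData.ideal_bot, Pi.bot_apply]
    exact (RingHom.injective_iff_ker_eq_bot _).mp (f.toImage_app_injective U)

/-- a dominant map factors through no proper closed subscheme -/
lemma isIso_of_factor {C : Scheme.{u}} (c : C ⟶ Y) [IsClosedImmersion c] (d : X ⟶ Y)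
    [IsSchemeTheoreticallyDominant d] (d' : X ⟶ C) (h : d' ≫ c = d) : IsIso c := by
  refine IsClosedImmersion.isIso_iff_ker_eq_bot.mpr (le_bot_iff.mp ?_)
  rw [← d.ker_eq_bot, ← h]
  exact d'.le_ker_comp c

/-- two maps into a separated scheme agreeing after a dominant map are equal -/
lemma hom_ext_of_schDom (d : X ⟶ W) [IsSchemeTheoreticallyDominant d] {a b : W ⟶ Y}
    (q : Y ⟶ S) [IsSeparated q] (hq : a ≫ q = b ≫ q) (h : d ≫ a = d ≫ b) : a = b := by
  let p : W ⟶ pullback q q := pullback.lift a b hq
  let d' : X ⟶ pullback p (pullback.diagonal q) :=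
    pullback.lift d (d ≫ a) (by
      apply pullback.hom_ext
      · simp [p, pullback.lift_fst]
      · simp [p, pullback.lift_snd, h])
  have : IsIso (pullback.fst p (pullback.diagonal q)) :=
    isIso_of_factor _ d d' (pullback.lift_fst _ _ _)
  have e : p = inv (pullback.fst p (pullback.diagonal q)) ≫ pullback.snd p (pullback.diagonal q) ≫
      pullback.diagonal q := by
    rw [← pullback.condition, IsIso.inv_hom_id_assoc]
  have e1 := congrArg (· ≫ pullback.fst q q) e
  have e2 := congrArg (· ≫ pullback.snd q q) e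
  simp only [p, pullback.lift_fst, pullback.lift_snd, Category.assoc, pullback.diagonal_fst,
    pullback.diagonal_snd, Category.comp_id] at e1 e2
  exact e1.trans e2.symm

instance schDom_morphismRestrict (f : X ⟶ Y) [IsSchemeTheoreticallyDominant f] [QuasiCompact f]
    (U : Y.Opens) : IsSchemeTheoreticallyDominant (f ∣_ U) :=
  IsSchemeTheoreticallyDominant.of_isPullback (isPullback_morphismRestrict f U).flip

/-- recognise the restriction of a morphism from a cartesian square -/
lemma restrict_of_isPullback {P : MorphismProperty Scheme.{u}} [P.RespectsIso] {U' : Scheme.{u}}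
    {f : X ⟶ Y} {U : Y.Opens} {g : U' ⟶ U.toScheme} {iU : U' ⟶ X}
    (H : IsPullback g iU U.ι f) (hg : P g) : P (f ∣_ U) := by
  let e := (isPullback_morphismRestrict f U).isoIsPullback _ _ H
  rw [show f ∣_ U = e.hom ≫ g from ((isPullback_morphismRestrict f U).isoIsPullback_hom_fst _ _ H).symm]
  exact (P.cancel_left_of_respectsIso _ _).mpr hg

/-- a morphism with image inside opens on which it is a closed immersion is an immersion -/
lemma isImmersion_of_closed_on (φ : X ⟶ Y) {ι : Type*} (O : ι → Y.Opens)
    (hcov : ⨆ i, φ ⁻¹ᵁ O i = ⊤) (h : ∀ i, IsClosedImmersion (φ ∣_ O i)) : IsImmersion φ := by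
  let V : Y.Opens := ⨆ i, O i
  have hV : ⨆ i, V.ι ⁻¹ᵁ O i = ⊤ := by
    rw [← Scheme.Hom.preimage_iSup]
    ext x; simp [V]
  have : IsClosedImmersion (φ ∣_ V) := by
    refine IsZariskiLocalAtTarget.of_iSup_eq_top (P := @IsClosedImmersion) _ hV fun i => ?_
    rw [MorphismProperty.arrow_mk_iso_iff @IsClosedImmersion (morphismRestrictRestrict φ V _)]
    have e : V.ι ''ᵁ (V.ι ⁻¹ᵁ O i) = O i := by
      rw [Scheme.Hom.image_preimage_eq_opensRange_inf, Scheme.Opens.opensRange_ι]
      exact inf_eq_right.mpr (le_iSup O i)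
    rw [e]
    exact h i
  have hX : φ ⁻¹ᵁ V = ⊤ := by rw [Scheme.Hom.preimage_iSup]; exact hcov
  have e : φ = (X.topIso.inv ≫ (X.isoOfEq hX).inv) ≫ (φ ∣_ V) ≫ V.ι := by
    simp [morphismRestrict_ι]
  rw [e]
  infer_instance

end ChowLib

end
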