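import Groth.Agent.ChowLib.Segre
import Groth.Agent.ChowLib.SchDom
import Mathlib.AlgebraicGeometry.Morphisms.FiniteType
import Mathlib.AlgebraicGeometry.Morphisms.Proper

/-!
# Projective space over a base: properness; immersion of a finite disjoint union of affines
-/

universe u

open CategoryTheory CategoryTheory.Limits AlgebraicGeometry

noncomputable section

namespace ChowLib

instance isProper_toSpec (n : ℕ) : IsProper (CohB1.ProjSpace.toSpec n Z.{u}) := by
  haveI : IsScalarTower Z.{u} (gr.{u} n 0) (MvPolynomial (Fin (n + 1)) Z.{u}) :=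
    IsScalarTower.of_algebraMap_eq (R := Z.{u}) (S := gr.{u} n 0) fun _ => rfl
  haveI : Algebra.FiniteType (gr.{u} n 0) (MvPolynomial (Fin (n + 1)) Z.{u}) :=
    Algebra.FiniteType.of_restrictScalars_finiteType Z.{u} _ _
  have hb : Function.Bijective (algebraMap Z.{u} (gr.{u} n 0)) := by
    refine ⟨fun a b h => MvPolynomial.C_injective _ _ (congrArg Subtype.val h), fun p => ?_⟩
    obtain ⟨r, hr⟩ : ∃ r : Z.{u}, MvPolynomial.C r = (p : MvPolynomial (Fin (n + 1)) Z.{u}) :=
      ⟨_, ((MvPolynomial.totalDegree_eq_zero_iff_eq_C).mp (Nat.le_zero.mp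
        (MvPolynomial.IsHomogeneous.totalDegree_le p.2))).symm⟩
    exact ⟨r, Subtype.ext hr⟩
  haveI : IsIso (CommRingCat.ofHom (algebraMap Z.{u} (gr.{u} n 0))) :=
    (ConcreteCategory.isIso_iff_bijective _).mpr hb
  haveI : IsProper (Proj.toSpecZero (gr.{u} n)) := inferInstance
  exact inferInstanceAs (IsProper (Proj.toSpecZero (gr.{u} n) ≫ Spec.map (CommRingCat.ofHom _)))

instance isProper_toBase (n : ℕ) (S : Scheme.{u}) :
    IsProper (CohB1.ProjSpaceOver.toBase n S) :=
  MorphismProperty.of_isPullback (isPullback_po n S) (isProper_toSpec n)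

lemma exists_generators {A B : CommRingCat.{u}} (f : A ⟶ B) (hf : f.hom.FiniteType) :
    ∃ s : Finset B, ∀ T : Subring B, Set.range f.hom ⊆ T → (↑s : Set B) ⊆ T → T = ⊤ := by
  letI := f.hom.toAlgebra
  obtain ⟨s, hs⟩ := (hf : Algebra.FiniteType A B).out
  refine ⟨s, fun T hT hsT => eq_top_iff.mpr fun x _ => ?_⟩
  have hx : x ∈ Algebra.adjoin A (↑s : Set B) := hs ▸ trivial
  induction hx using Algebra.adjoin_induction with
  | mem y hy => exact hsT hy
  | algebraMap r => exact hT ⟨r, rfl⟩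
  | add _ _ _ _ h1 h2 => exact T.add_mem (h1 trivial) (h2 trivial)
  | mul _ _ _ _ h1 h2 => exact T.mul_mem (h1 trivial) (h2 trivial)

lemma exists_sigma_eq {K : Type u} {U : K → Scheme.{u}} (x : (∐ U : Scheme.{u})) :
    ∃ l y, Sigma.ι U l y = x :=
  (sigmaOpenCover U).exists_eq x

open Classical in
/-- a finite disjoint union of affine schemes of finite type over affine opens of `S`
immerses into a projective space over `S` -/
theorem exists_immersion_sigma {S : Scheme.{u}} {K : Type u} [Finite K] (U : K → Scheme.{u})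
    [∀ k, IsAffine (U k)] (V : K → S.Opens) (hV : ∀ k, IsAffineOpen (V k))
    (g : ∀ k, U k ⟶ (V k).toScheme) [∀ k, LocallyOfFiniteType (g k)] :
    ∃ (n : ℕ) (φ : (∐ U) ⟶ CohB1.ProjSpaceOver n S), IsImmersion φ ∧
      φ ≫ CohB1.ProjSpaceOver.toBase n S = Sigma.desc fun k => g k ≫ (V k).ι := by
  have := Fintype.ofFinite K
  have hVa : ∀ k, IsAffine (V k).toScheme := fun k => hV k
  have hft : ∀ k, ((g k).appTop).hom.FiniteType := fun k => by
    have := hVa k
    exact (HasRingHomProperty.iff_of_isAffine (P := @LocallyOfFiniteType)).mp inferInstance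
  choose s hs using fun k => exists_generators _ (hft k)
  let J := K ⊕ Σ k, ↥(s k)
  let e : Option J ≃ Fin (Fintype.card J + 1) := Fintype.equivFinOfCardEq (by simp)
  let n := Fintype.card J
  let i : K → Fin (n + 1) := fun k => e (some (.inl k))
  let v : ∀ k, Fin (n + 1) → Γ(U k, ⊤) := fun k j =>
    match e.symm j with
    | none => 0
    | some (.inl l) => if l = k then 1 else 0
    | some (.inr ⟨l, t⟩) => if h : l = k then h ▸ (t : Γ(U l, ⊤)) else 0
  have hv1 : ∀ k, v k (i k) = 1 := fun k => by simp [v, i]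
  have hv0 : ∀ k l, l ≠ k → v k (i l) = 0 := fun k l h => by simp [v, i, h]
  have hvt : ∀ k (t : ↥(s k)), v k (e (some (.inr ⟨k, t⟩))) = t := fun k t => by simp [v]
  let φc : ∀ k, U k ⟶ CohB1.ProjSpaceOver n S := fun k =>
    poLift (pt (v k) (i k) (by rw [hv1]; exact isUnit_one)) (g k ≫ (V k).ι)
  let φ : (∐ U) ⟶ CohB1.ProjSpaceOver n S := Sigma.desc φc
  refine ⟨n, φ, ?_, Sigma.hom_ext _ _ fun k => by simp [φ, φc]⟩
  let O : K → (CohB1.ProjSpaceOver n S).Opens := fun k =>
    toPZ n S ⁻¹ᵁ Dplus (i k) ⊓ CohB1.ProjSpaceOver.toBase n S ⁻¹ᵁ V k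
  have hpre : ∀ k, φ ⁻¹ᵁ O k = (Sigma.ι U k).opensRange := by
    intro k
    ext x
    obtain ⟨l, y, rfl⟩ := exists_sigma_eq x
    have e1 : φc l ≫ toPZ n S = pt (v l) (i l) (by rw [hv1]; exact isUnit_one) := poLift_toPZ _ _
    have e2 : φc l ≫ CohB1.ProjSpaceOver.toBase n S = g l ≫ (V l).ι := poLift_toBase _ _
    constructor
    · intro hx
      have hx1 : y ∈ (Sigma.ι U l ≫ φ ≫ toPZ n S) ⁻¹ᵁ Dplus (i k) := hx.1
      rw [Sigma.ι_desc_assoc, e1, pt_preimage] at hx1
      by_cases h : k = l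
      · subst h; exact ⟨y, rfl⟩
      · rw [hv0 l k h, Scheme.basicOpen_zero] at hx1
        exact hx1.elim
    · rintro ⟨y', hy'⟩
      rw [← hy']
      constructor
      · change y' ∈ (Sigma.ι U k ≫ φ ≫ toPZ n S) ⁻¹ᵁ Dplus (i k)
        rw [Sigma.ι_desc_assoc, poLift_toPZ, pt_preimage, hv1,
          Scheme.basicOpen_of_isUnit _ isUnit_one]
        trivial
      · change y' ∈ (Sigma.ι U k ≫ φ ≫ CohB1.ProjSpaceOver.toBase n S) ⁻¹ᵁ V k
        rw [Sigma.ι_desc_assoc, poLift_toBase]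
        exact (g k y').2
  refine isImmersion_of_closed_on φ O ?_ fun k => ?_
  · rw [eq_top_iff]
    intro x _
    obtain ⟨l, y, rfl⟩ := exists_sigma_eq x
    exact TopologicalSpace.Opens.mem_iSup.mpr ⟨l, (hpre l).ge ⟨y, rfl⟩⟩
  -- the piece over `O k`
  have := hVa k
  have : IsAffine (Dplus.{u} (i k)).toScheme := isAffineOpen_Dplus _
  let P := pullback ((Dplus.{u} (i k)).ι ≫ CohB1.ProjSpace.toSpec n Z.{u})
    ((V k).ι ≫ specULiftZIsTerminal.from S)
  let j : P ⟶ CohB1.ProjSpaceOver n S :=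
    pullback.map _ _ _ _ (Dplus.{u} (i k)).ι (V k).ι (𝟙 _) (by simp) (by simp)
  have : IsOpenImmersion j := inferInstanceAs (IsOpenImmersion (pullback.map _ _ _ _ _ _ _ _ _))
  have hj : j.opensRange = O k := by
    ext1
    refine (Scheme.Pullback.range_map ..).trans ?_
    simp only [O, Scheme.Opens.range_ι]
    rfl
  have hptop : pt (v k) (i k) (by rw [hv1]; exact isUnit_one) ⁻¹ᵁ Dplus (i k) = ⊤ := by
    rw [pt_preimage, hv1, Scheme.basicOpen_of_isUnit _ isUnit_one]
  let l : U k ⟶ (Dplus.{u} (i k)).toScheme :=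
    IsOpenImmersion.lift (Dplus.{u} (i k)).ι (pt (v k) (i k) (by rw [hv1]; exact isUnit_one)) (by
      rintro _ ⟨y, rfl⟩
      have : y ∈ pt (v k) (i k) (by rw [hv1]; exact isUnit_one) ⁻¹ᵁ Dplus (i k) := by
        rw [hptop]; trivial
      simpa using this)
  let c : U k ⟶ P := pullback.lift l (g k) (specULiftZIsTerminal.hom_ext _ _)
  have hc : IsClosedImmersion c := by
    refine IsClosedImmersion.of_surjective_of_isAffine c ?_
    rw [← RingHom.range_eq_top]
    refine hs k _ ?_ ?_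
    · rintro _ ⟨a, rfl⟩
      refine ⟨(pullback.snd ((Dplus.{u} (i k)).ι ≫ CohB1.ProjSpace.toSpec n Z.{u})
        ((V k).ι ≫ specULiftZIsTerminal.from S)).appTop a, ?_⟩
      change ((pullback.snd ((Dplus.{u} (i k)).ι ≫ CohB1.ProjSpace.toSpec n Z.{u})
        ((V k).ι ≫ specULiftZIsTerminal.from S)).appTop ≫ c.appTop) a = _
      rw [← Scheme.Hom.comp_appTop, pullback.lift_snd]
    · intro t ht
      obtain ⟨z, hz, ez, hz1⟩ := exists_pt (Dplus.{u} (i k)).ι (i k) (preimage_ι_self _)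
      have hl : l ≫ (Dplus.{u} (i k)).ι = _ := IsOpenImmersion.lift_fac _ _ _
      rw [ez, comp_pt, pt_eq_iff_same] at hl
      have := hl (e (some (.inr ⟨k, ⟨t, ht⟩⟩)))
      simp only [hv1, hvt, hz1, map_one, mul_one] at this
      refine ⟨(pullback.fst ((Dplus.{u} (i k)).ι ≫ CohB1.ProjSpace.toSpec n Z.{u})
        ((V k).ι ≫ specULiftZIsTerminal.from S)).appTop (z (e (some (.inr ⟨k, ⟨t, ht⟩⟩)))), ?_⟩
      change ((pullback.fst ((Dplus.{u} (i k)).ι ≫ CohB1.ProjSpace.toSpec n Z.{u})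
        ((V k).ι ≫ specULiftZIsTerminal.from S)).appTop ≫ c.appTop) _ = _
      rw [← Scheme.Hom.comp_appTop, pullback.lift_fst]
      exact this
  let g' : U k ⟶ (O k).toScheme :=
    c ≫ (IsOpenImmersion.isoOfRangeEq j (O k).ι (by rw [Scheme.Opens.range_ι, ← hj]; rfl)).hom
  refine restrict_of_isPullback (P := @IsClosedImmersion) (g := g') (iU := Sigma.ι U k) ?_
    inferInstance
  refine IsOpenImmersion.isPullback g' (Sigma.ι U k) (O k).ι φ ?_ ?_
  · rw [Sigma.ι_desc, Category.assoc, IsOpenImmersion.isoOfRangeEq_hom_fac]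
    apply po_ext
    · rw [poLift_toPZ, Category.assoc, show j ≫ toPZ n S = pullback.fst _ _ ≫
        (Dplus.{u} (i k)).ι from pullback.lift_fst _ _ _, pullback.lift_fst_assoc,
        IsOpenImmersion.lift_fac]
    · rw [poLift_toBase, Category.assoc, show j ≫ CohB1.ProjSpaceOver.toBase n S =
        pullback.snd _ _ ≫ (V k).ι from pullback.lift_snd _ _ _, pullback.lift_snd_assoc]
  · rw [Scheme.Opens.opensRange_ι]; exact hpre k

end ChowLib

end
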