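import Groth.Agent.ChowLib.Union

/-!
# Chow's lemma without finiteness of irreducible components

`chow_all`: for `f : X ⟶ S` separated, locally of finite type, `X` qcqs, there is a projective
surjection `π : X' ⟶ X` with `X'` immersed in a projective space over `S`.
`chow_open`: the same with `π` an isomorphism over some nonempty open (instead of surjective).
-/

universe u

open CategoryTheory CategoryTheory.Limits AlgebraicGeometry TopologicalSpace

noncomputable section

namespace ChowLib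

variable {X S : Scheme.{u}}

lemma exists_finite_immersed_cover (f : X ⟶ S) [LocallyOfFiniteType f] [CompactSpace X] :
    ∃ (m : ℕ) (U : Fin m → X.Opens) (N : Fin m → ℕ)
      (ji : ∀ a, (U a).toScheme ⟶ CohB1.ProjSpaceOver (N a) S),
      (∀ a, IsCompact (U a : Set X)) ∧ (∀ a, IsImmersion (ji a)) ∧
      (∀ a, ji a ≫ CohB1.ProjSpaceOver.toBase (N a) S = (U a).ι ≫ f) ∧
      ∀ x, ∃ a, x ∈ U a := by
  classical
  choose U hxU hUa N ji hji1 hji2 using exists_affine_immersed f
  obtain ⟨t, ht⟩ := isCompact_univ.elim_finite_subcover (fun x => (U x : Set X))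
    (fun x => (U x).isOpen) (fun x _ => Set.mem_iUnion.mpr ⟨x, hxU x⟩)
  refine ⟨t.card, fun a => U (t.equivFin.symm a), _, fun a => ji (t.equivFin.symm a),
    fun a => (hUa _).isCompact, fun a => hji1 _, fun a => hji2 _, fun x => ?_⟩
  obtain ⟨y, hy, hxy⟩ := Set.mem_iUnion₂.mp (ht (Set.mem_univ x))
  exact ⟨t.equivFin ⟨y, hy⟩, by simpa using hxy⟩

section strata

variable [QuasiSeparatedSpace X] [CompactSpace X] {m : ℕ} (U : Fin m → X.Opens)

lemma isCompact_inf (hU : ∀ a, IsCompact (U a : Set X)) (J : Finset (Fin m)) :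
    IsCompact ((J.inf U : X.Opens) : Set X) :=
  Finset.inf_induction (p := fun V : X.Opens => IsCompact (V : Set X)) isCompact_univ
    (fun A hA B hB => QuasiSeparatedSpace.inter_isCompact _ _ A.isOpen hA B.isOpen hB)
    fun a _ => hU a

lemma quasiCompact_ι_of_isCompact (W : X.Opens) (hW : IsCompact (W : Set X)) : QuasiCompact W.ι :=
  quasiCompact_iff_isSpectralMap.mpr
    (IsRetrocompact_iff_isSpectralMap_subtypeVal.mp fun V hVc hV =>
      QuasiSeparatedSpace.inter_isCompact _ _ W.isOpen hW hV hVc)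

/-- one piece of the stratification -/
theorem exists_chow_stratum (f : X ⟶ S) [IsSeparated f] (hU : ∀ a, IsCompact (U a : Set X))
    (hcov : ∀ x, ∃ a, x ∈ U a) (N : Fin m → ℕ)
    (ji : ∀ a, (U a).toScheme ⟶ CohB1.ProjSpaceOver (N a) S) [∀ a, IsImmersion (ji a)]
    (hji : ∀ a, ji a ≫ CohB1.ProjSpaceOver.toBase (N a) S = (U a).ι ≫ f) (J : Finset (Fin m))
    (Y : Scheme.{u}) [CompactSpace Y] (i : Y ⟶ X) [QuasiCompact i] [IsImmersion i]
    (hi : ∀ y, ∀ a ∈ J, i y ∈ U a) (hout : ∀ y, ∀ a ∉ J, i y ∉ U a) :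
    ∃ (n : ℕ) (X' : Scheme.{u}) (π : X' ⟶ X) (j : X' ⟶ CohB1.ProjSpaceOver n S),
      IsImmersion j ∧ j ≫ CohB1.ProjSpaceOver.toBase n S = π ≫ f ∧ IsProper π ∧
      Set.range π = closure (Set.range i) ∧
      (∃ e : X' ⟶ CohB1.ProjSpaceOver n X,
        IsClosedImmersion e ∧ e ≫ CohB1.ProjSpaceOver.toBase n X = π) ∧
      (∀ W : X.Opens, i ⁻¹ᵁ W = ⊤ → IsIso (i ∣_ W) → IsIso (π ∣_ W)) := by
  classical
  let e := J.equivFin.symm
  refine exists_chow_piece f (fun b => U (e b).1) (fun b => N (e b).1) (fun b => ji (e b).1)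
    (fun b => hji _) i ?_ ?_
  · rintro _ ⟨y, rfl⟩
    exact Set.mem_iInter.mpr fun b => hi y _ (e b).2
  · intro z hz
    obtain ⟨a, ha⟩ := hcov z
    have haJ : a ∈ J := by
      by_contra haJ
      obtain ⟨_, hw, y, rfl⟩ := mem_closure_iff.mp hz _ (U a).isOpen ha
      exact hout y a haJ hw
    exact Set.mem_iUnion.mpr ⟨e.symm ⟨a, haJ⟩, by simpa using ha⟩

end strata

/-- **Chow's lemma** over any base, for qcqs `X` -/
theorem chow_all (f : X ⟶ S) [IsSeparated f] [LocallyOfFiniteType f] [CompactSpace X]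
    [QuasiSeparatedSpace X] :
    ∃ (n : ℕ) (X' : Scheme.{u}) (π : X' ⟶ X) (j : X' ⟶ CohB1.ProjSpaceOver n S),
      IsImmersion j ∧ j ≫ CohB1.ProjSpaceOver.toBase n S = π ≫ f ∧ IsProper π ∧ Surjective π ∧
      ∃ (m : ℕ) (e : X' ⟶ CohB1.ProjSpaceOver m X),
        IsClosedImmersion e ∧ e ≫ CohB1.ProjSpaceOver.toBase m X = π := by
  classical
  obtain ⟨m, U, N, ji, hUc, hji1, hji2, hcov⟩ := exists_finite_immersed_cover f
  let e : Fin (Fintype.card (Finset (Fin m))) ≃ Finset (Fin m) := (Fintype.equivFin _).symm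
  let W : Fin (Fintype.card (Finset (Fin m))) → X.Opens := fun k => (e k).inf U
  let Zs : ∀ k, Closeds (W k).toScheme := fun k =>
    ⟨(W k).ι ⁻¹' (⋃ a ∈ (Finset.univ \ e k), (U a : Set X))ᶜ,
      ((isOpen_biUnion fun a _ => (U a).isOpen).isClosed_compl).preimage (W k).ι.continuous⟩
  let I : ∀ k, (W k).toScheme.IdealSheafData := fun k =>
    Scheme.IdealSheafData.vanishingIdeal (Zs k)
  have : ∀ k, CompactSpace (W k).toScheme := fun k =>
    isCompact_iff_compactSpace.mp (isCompact_inf U hUc _)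
  have : ∀ k, QuasiCompact (W k).ι := fun k => quasiCompact_ι_of_isCompact _ (isCompact_inf U hUc _)
  have : ∀ k, CompactSpace (I k).subscheme := fun k =>
    QuasiCompact.compactSpace_of_compactSpace (I k).subschemeι
  have hrange : ∀ k, Set.range (I k).subschemeι = (Zs k : Set (W k).toScheme) := by
    intro k
    rw [Scheme.IdealSheafData.range_subschemeι, Scheme.IdealSheafData.coe_support_vanishingIdeal]
  have H := fun k => exists_chow_stratum U f hUc hcov N ji hji2 (e k) (I k).subscheme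
    ((I k).subschemeι ≫ (W k).ι)
    (fun y a ha => (Finset.inf_le (f := U) ha) ((I k).subschemeι y).2)
    (fun y a ha h => by
      have := (hrange k).le ⟨y, rfl⟩
      exact this (Set.mem_iUnion₂.mpr ⟨a, by simp [ha], h⟩))
  choose n X' π j hj hjb hπ hπr ee hee heb using fun k =>
    (let ⟨n, X', π, j, a, b, c, d, ⟨ee, e1, e2⟩, _⟩ := H k
     ⟨n, X', π, j, a, b, c, d, ee, e1, e2⟩ :
      ∃ (n : ℕ) (X' : Scheme.{u}) (π : X' ⟶ X) (j : X' ⟶ CohB1.ProjSpaceOver n S),
      IsImmersion j ∧ j ≫ CohB1.ProjSpaceOver.toBase n S = π ≫ f ∧ IsProper π ∧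
      Set.range π = closure (Set.range ((I k).subschemeι ≫ (W k).ι)) ∧
      ∃ ee : X' ⟶ CohB1.ProjSpaceOver n X,
        IsClosedImmersion ee ∧ ee ≫ CohB1.ProjSpaceOver.toBase n X = π)
  obtain ⟨nS, ψ, hψ, hψb⟩ := exists_immersion_union (fun k => X' k.down) n (fun k => j k.down)
  obtain ⟨nX, χ, hχ, hχb⟩ := exists_closedImmersion_union (fun k => X' k.down) n
    (fun k => ee k.down) (fun k => π k.down) (fun k => heb _)
  have hp : IsProper (Sigma.desc fun k : ULift.{u} (Fin _) => π k.down) := hχb ▸ inferInstance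
  refine ⟨nS, _, Sigma.desc fun k : ULift.{u} (Fin _) => π k.down, ψ, hψ, ?_, hp, ?_, nX, χ, hχ, hχb⟩
  · rw [hψb]
    refine Sigma.hom_ext _ _ fun k => ?_
    simp [hjb]
  · refine ⟨fun x => ?_⟩
    let J : Finset (Fin m) := Finset.univ.filter fun a => x ∈ U a
    obtain ⟨k, hk⟩ := e.surjective J
    have hxW : x ∈ W k := by
      change x ∈ ((e k).inf U : X.Opens)
      rw [hk]
      exact Finset.inf_induction (p := fun V : X.Opens => x ∈ V) trivial (fun _ hA _ hB => ⟨hA, hB⟩)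
        fun a ha => (Finset.mem_filter.mp ha).2
    obtain ⟨y, hy⟩ : (⟨x, hxW⟩ : (W k).toScheme) ∈ Set.range (I k).subschemeι := by
      rw [hrange]
      intro h
      obtain ⟨a, ha, hxa⟩ := Set.mem_iUnion₂.mp h
      simp only [hk, Finset.mem_sdiff, J, Finset.mem_filter] at ha
      exact ha.2 ⟨Finset.mem_univ _, hxa⟩
    obtain ⟨w, hw⟩ : x ∈ Set.range (π k) := by
      rw [hπr]
      refine subset_closure ⟨y, ?_⟩
      rw [Scheme.Hom.comp_apply, hy]
      rfl
    refine ⟨Sigma.ι (fun k : ULift.{u} (Fin _) => X' k.down) ⟨k⟩ w, ?_⟩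
    rw [← Scheme.Hom.comp_apply, Sigma.ι_desc]
    exact hw

/-- **Chow's lemma**, isomorphism over a nonempty open -/
theorem chow_open (f : X ⟶ S) [IsSeparated f] [LocallyOfFiniteType f] [CompactSpace X]
    [QuasiSeparatedSpace X] [Nonempty X] :
    ∃ (n : ℕ) (X' : Scheme.{u}) (π : X' ⟶ X) (j : X' ⟶ CohB1.ProjSpaceOver n S),
      IsImmersion j ∧ j ≫ CohB1.ProjSpaceOver.toBase n S = π ≫ f ∧
      (∃ e : X' ⟶ CohB1.ProjSpaceOver n X,
        IsClosedImmersion e ∧ e ≫ CohB1.ProjSpaceOver.toBase n X = π) ∧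
      ∃ W : X.Opens, (W : Set X).Nonempty ∧ IsIso (π ∣_ W) := by
  classical
  obtain ⟨m, U, N, ji, hUc, hji1, hji2, hcov⟩ := exists_finite_immersed_cover f
  let P : Finset (Finset (Fin m)) :=
    Finset.univ.filter fun J => ((J.inf U : X.Opens) : Set X).Nonempty
  have hP : P.Nonempty := ⟨∅, Finset.mem_filter.mpr ⟨Finset.mem_univ _,
    ⟨Classical.arbitrary X, trivial⟩⟩⟩
  obtain ⟨J, hJ, hmax⟩ := P.exists_max_image Finset.card hP
  let W : X.Opens := J.inf U
  have : CompactSpace W.toScheme := isCompact_iff_compactSpace.mp (isCompact_inf U hUc _)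
  have : QuasiCompact W.ι := quasiCompact_ι_of_isCompact _ (isCompact_inf U hUc _)
  obtain ⟨n, X', π, j, hj, hjb, -, -, he, hiso⟩ := exists_chow_stratum U f hUc hcov N ji hji2 J
    W.toScheme W.ι (fun y a ha => (Finset.inf_le (f := U) ha) y.2) (fun y a ha h => by
      have h' : insert a J ∈ P := Finset.mem_filter.mpr ⟨Finset.mem_univ _, ⟨y.1, by
        rw [Finset.inf_insert]; exact ⟨h, y.2⟩⟩⟩
      have := hmax _ h'
      rw [Finset.card_insert_of_notMem ha] at this
      omega)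
  refine ⟨n, X', π, j, hj, hjb, he, W, (Finset.mem_filter.mp hJ).2, hiso W (preimage_ι_self W) ?_⟩
  exact restrict_of_isPullback (P := MorphismProperty.isomorphisms Scheme) (g := 𝟙 W.toScheme)
    (iU := 𝟙 W.toScheme) (IsKernelPair.id_of_mono W.ι) (inferInstanceAs (IsIso (𝟙 W.toScheme)))

end ChowLib

end
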