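import Groth.Agent.ChowLib.ProjProd
import Mathlib.AlgebraicGeometry.Noetherian

/-!
# Chow's lemma

`exists_chow`: for a separated `f : X ⟶ S` and finitely many dense opens `U i` covering `X`, each
immersed into a projective space over `S`, there is a proper surjective `π : X' ⟶ X` with an
immersion of `X'` into a projective space over `S`, an isomorphism over the intersection of the
`U i`.

`chow`: the covering exists if `f` is of finite type and `X` has finitely many irreducible
components (and `X` is quasi-separated).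
-/

universe u

open CategoryTheory CategoryTheory.Limits AlgebraicGeometry TopologicalSpace

noncomputable section

namespace ChowLib

variable {X S : Scheme.{u}}

theorem exists_chow (f : X ⟶ S) [IsSeparated f] {r : ℕ} (U : Fin r → X.Opens) (hU : ⨆ i, U i = ⊤)
    (N : Fin r → ℕ) (ji : ∀ i, (U i).toScheme ⟶ CohB1.ProjSpaceOver (N i) S)
    [∀ i, IsImmersion (ji i)]
    (hji : ∀ i, ji i ≫ CohB1.ProjSpaceOver.toBase (N i) S = (U i).ι ≫ f)
    (U0 : X.Opens) (hU0 : ∀ i, U0 ≤ U i) [QuasiCompact U0.ι] (hd : Dense (U0 : Set X)) :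
    ∃ (n : ℕ) (X' : Scheme.{u}) (π : X' ⟶ X) (j : X' ⟶ CohB1.ProjSpaceOver n S),
      IsImmersion j ∧ j ≫ CohB1.ProjSpaceOver.toBase n S = π ≫ f ∧ IsProper π ∧ Surjective π ∧
      IsIso (π ∣_ U0) ∧
      (∃ i : X' ⟶ CohB1.ProjSpaceOver n X,
        IsClosedImmersion i ∧ i ≫ CohB1.ProjSpaceOver.toBase n X = π) ∧
      ∃ d : U0.toScheme ⟶ X', IsSchemeTheoreticallyDominant d ∧ QuasiCompact d ∧ d ≫ π = U0.ι := by
  obtain ⟨n, P, p, qi, jP, hjP, hjp, hqi, hlift⟩ := exists_projProd S r N
  have hp : IsProper p := hjp ▸ inferInstanceAs (IsProper (jP ≫ _))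
  obtain ⟨x0, hx0, hx0q⟩ := hlift (U0.ι ≫ f) (fun i => X.homOfLE (hU0 i) ≫ ji i)
    (fun i => by simp [hji])
  let g : U0.toScheme ⟶ pullback f p := pullback.lift U0.ι x0 hx0.symm
  have hg1 : g ≫ pullback.fst f p = U0.ι := pullback.lift_fst _ _ _
  have hg2 : g ≫ pullback.snd f p = x0 := pullback.lift_snd _ _ _
  have : QuasiCompact (g ≫ pullback.fst f p) := by rw [hg1]; infer_instance
  have : QuasiCompact g := QuasiCompact.of_comp g (pullback.fst f p)
  let d : U0.toScheme ⟶ g.image := g.toImage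
  let π : g.image ⟶ X := g.imageι ≫ pullback.fst f p
  let q : g.image ⟶ P := g.imageι ≫ pullback.snd f p
  have hπp : π ≫ f = q ≫ p := by simp [π, q, pullback.condition]
  have hdπ : d ≫ π = U0.ι := by simp [d, π, hg1]
  have hdq : d ≫ q = x0 := by simp [d, q, hg2]
  have hπdef : π = g.imageι ≫ pullback.fst f p := rfl
  have hqdef : q = g.imageι ≫ pullback.snd f p := rfl
  have hπ : IsProper π := inferInstanceAs (IsProper (g.imageι ≫ _))
  have hXsep : IsSeparated (π ≫ f) := inferInstance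
  have hddom : IsSchemeTheoreticallyDominant d := inferInstanceAs (IsSchemeTheoreticallyDominant g.toImage)
  have hdqc : QuasiCompact d := inferInstanceAs (QuasiCompact g.toImage)
  clear_value d π q
  -- over `U i`
  have key : ∀ i, ∃ V : P.Opens, q ⁻¹ᵁ V = π ⁻¹ᵁ U i ∧ IsClosedImmersion (q ∣_ V) := by
    intro i
    let O : (CohB1.ProjSpaceOver (N i) S).Opens := (ji i).coborderRange
    let c : (U i).toScheme ⟶ O.toScheme := (ji i).liftCoborder
    have hc : c ≫ O.ι = ji i := (ji i).liftCoborder_ι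
    let V : P.Opens := qi i ⁻¹ᵁ O
    let W : g.image.Opens := q ⁻¹ᵁ V
    let w : W.toScheme ⟶ O.toScheme := (q ∣_ V) ≫ (qi i ∣_ O)
    have hw : w ≫ O.ι = W.ι ≫ q ≫ qi i := by
      simp only [w, Category.assoc, morphismRestrict_ι]
      exact morphismRestrict_ι_assoc q V (qi i)
    let dW : (d ⁻¹ᵁ W).toScheme ⟶ (U i).toScheme := (d ⁻¹ᵁ W).ι ≫ X.homOfLE (hU0 i)
    have hdW : dW ≫ c = (d ∣_ W) ≫ w := by
      rw [← cancel_mono O.ι, Category.assoc, Category.assoc, Category.assoc, hc, hw,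
        morphismRestrict_ι_assoc,
        reassoc_of% hdq, hx0q]
    have : IsIso (pullback.fst w c) :=
      isIso_of_factor _ (d ∣_ W) (pullback.lift (d ∣_ W) dW hdW.symm) (pullback.lift_fst _ _ _)
    obtain ⟨uW, huW⟩ : ∃ uW : W.toScheme ⟶ (U i).toScheme, uW ≫ c = w :=
      ⟨inv (pullback.fst w c) ≫ pullback.snd w c, by simp [← pullback.condition]⟩
    have hW1 : uW ≫ (U i).ι = W.ι ≫ π := by
      refine hom_ext_of_schDom (d ∣_ W) f ?_ ?_
      · rw [Category.assoc, Category.assoc, ← hji, ← hc, Category.assoc, ← Category.assoc uW c, huW,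
          ← Category.assoc, hw, Category.assoc, Category.assoc, hqi, hπp]
      · have hu : (d ∣_ W) ≫ uW = dW := by
          rw [← cancel_mono c, Category.assoc, huW, hdW]
        rw [reassoc_of% hu, morphismRestrict_ι_assoc, hdπ]
        simp [dW]
    have hle : W ≤ π ⁻¹ᵁ U i := fun x hx => by
      have := congrArg (fun φ : W.toScheme ⟶ X => φ.base ⟨x, hx⟩) hW1
      change π x ∈ U i
      convert (uW ⟨x, hx⟩).2 using 1
      exact this.symm
    let W' := π ⁻¹ᵁ U i
    have hW2 : W'.ι ≫ q ≫ qi i = (π ∣_ U i) ≫ ji i := by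
      refine hom_ext_of_schDom (d ∣_ W') (CohB1.ProjSpaceOver.toBase (N i) S) ?_ ?_
      · rw [Category.assoc, Category.assoc, Category.assoc, hqi, hji, morphismRestrict_ι_assoc, hπp]
      · rw [morphismRestrict_ι_assoc, reassoc_of% hdq, hx0q]
        have : (d ∣_ W') ≫ (π ∣_ U i) = (d ⁻¹ᵁ W').ι ≫ X.homOfLE (hU0 i) := by
          rw [← cancel_mono (U i).ι, Category.assoc, morphismRestrict_ι, morphismRestrict_ι_assoc,
            hdπ]
          simp
        rw [reassoc_of% this]
    have hge : π ⁻¹ᵁ U i ≤ W := fun x hx => by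
      have := congrArg (fun φ : W'.toScheme ⟶ CohB1.ProjSpaceOver (N i) S => φ.base ⟨x, hx⟩) hW2
      change qi i (q x) ∈ O
      have e : qi i (q x) = O.ι (c ((π ∣_ U i) ⟨x, hx⟩)) := by
        rw [← Scheme.Hom.comp_apply c O.ι, hc]; exact this
      rw [e]
      exact (c ((π ∣_ U i) ⟨x, hx⟩)).2
    refine ⟨V, le_antisymm hle hge, ?_⟩
    -- `T = V ∩ U i`
    let T := pullback (qi i ∣_ O) c
    let c' : T ⟶ V.toScheme := pullback.fst _ _
    let uT : T ⟶ X := pullback.snd _ _ ≫ (U i).ι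
    have huT : uT ≫ f = c' ≫ V.ι ≫ p := by
      simp only [uT, c', Category.assoc]
      rw [← hji, ← hc, Category.assoc, ← pullback.condition_assoc, morphismRestrict_ι_assoc, hqi]
    let sW : W.toScheme ⟶ T := pullback.lift (q ∣_ V) uW huW.symm
    let Γ' : T ⟶ pullback f (c' ≫ V.ι ≫ p) :=
      pullback.lift uT (𝟙 T) (by rw [huT, Category.id_comp])
    have : IsClosedImmersion (Γ' ≫ pullback.snd f (c' ≫ V.ι ≫ p)) := by
      rw [pullback.lift_snd]; infer_instance
    have hΓ : IsClosedImmersion Γ' :=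
      IsClosedImmersion.of_comp Γ' (pullback.snd f (c' ≫ V.ι ≫ p))
    let m : pullback f (c' ≫ V.ι ≫ p) ⟶ pullback f (V.ι ≫ p) :=
      pullback.map _ _ _ _ (𝟙 X) c' (𝟙 S) (by simp) (by simp)
    have hm : IsClosedImmersion m :=
      MorphismProperty.pullbackMap (P := @IsClosedImmersion) inferInstance inferInstance (by simp [*]) (by simp [*])
    let iZ : pullback f (V.ι ≫ p) ⟶ pullback f p :=
      pullback.map _ _ _ _ (𝟙 X) V.ι (𝟙 S) (by simp) (by simp)
    let h' : W.toScheme ⟶ pullback f (V.ι ≫ p) :=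
      pullback.lift (W.ι ≫ π) (q ∣_ V) (by rw [Category.assoc, hπp, morphismRestrict_ι_assoc])
    have hh : IsClosedImmersion h' := by
      refine MorphismProperty.of_isPullback (P := @IsClosedImmersion)
        (show IsPullback W.ι h' g.imageι iZ from ?_) inferInstance
      have : IsOpenImmersion iZ := inferInstanceAs (IsOpenImmersion (pullback.map _ _ _ _ _ _ _ _ _))
      refine (IsOpenImmersion.isPullback h' W.ι iZ g.imageι ?_ ?_).flip
      · apply pullback.hom_ext
        · simp [h', iZ, hπdef, pullback.lift_fst, pullback.lift_fst_assoc]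
        · simp [h', iZ, hqdef, W, pullback.lift_snd, pullback.lift_snd_assoc]
      · ext1
        rw [Scheme.Hom.coe_preimage, Scheme.Opens.opensRange_ι]
        change g.imageι ⁻¹' (Set.range iZ) = _
        rw [Scheme.Pullback.range_map]
        ext x
        simp [W, hqdef, Scheme.Hom.coe_opensRange]
    have : IsClosedImmersion (sW ≫ Γ' ≫ m) := by
      have : sW ≫ Γ' ≫ m = h' := by
        apply pullback.hom_ext
        · simp [sW, Γ', m, uT, h', pullback.lift_fst, pullback.lift_snd_assoc, hW1]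
        · simp [sW, Γ', m, c', h', pullback.lift_snd, pullback.lift_fst, pullback.lift_snd_assoc]
      rw [this]; exact hh
    have : IsClosedImmersion sW := IsClosedImmersion.of_comp sW (Γ' ≫ m)
    have e : q ∣_ V = sW ≫ c' := (pullback.lift_fst _ _ _).symm
    rw [e]
    infer_instance
  choose V hV1 hV2 using key
  have hq : IsImmersion q := by
    refine isImmersion_of_closed_on q V ?_ hV2
    simp only [hV1, ← Scheme.Hom.preimage_iSup, hU]
    rfl
  have hsurj : Surjective π := by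
    refine ⟨Set.range_eq_univ.mp (Set.eq_univ_of_univ_subset ?_)⟩
    rw [← hd.closure_eq, π.isClosedMap.isClosed_range.closure_subset_iff]
    intro x hx
    exact ⟨d ⟨x, hx⟩, by rw [← Scheme.Hom.comp_apply, hdπ]; rfl⟩
  have hiso : IsIso (π ∣_ U0) := by
    have hr : Set.range d ⊆ Set.range (π ⁻¹ᵁ U0).ι := by
      rintro _ ⟨y, rfl⟩
      rw [Scheme.Opens.range_ι]
      change π (d y) ∈ U0
      rw [← Scheme.Hom.comp_apply, hdπ]
      exact y.2
    let d' := IsOpenImmersion.lift (π ⁻¹ᵁ U0).ι d hr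
    have e1 : d' ≫ (π ∣_ U0) = 𝟙 _ := by
      rw [← cancel_mono U0.ι, Category.assoc, morphismRestrict_ι, IsOpenImmersion.lift_fac_assoc,
        hdπ, Category.id_comp]
    refine ⟨⟨d', ?_, e1⟩⟩
    refine hom_ext_of_schDom (d ∣_ (π ⁻¹ᵁ U0)) ((π ⁻¹ᵁ U0).ι ≫ π ≫ f) ?_ ?_
    · rw [Category.id_comp, Category.assoc, IsOpenImmersion.lift_fac_assoc, ← Category.assoc d,
        hdπ, morphismRestrict_ι_assoc]
    · rw [Category.comp_id, ← cancel_mono (π ⁻¹ᵁ U0).ι]
      simp only [Category.assoc, d', IsOpenImmersion.lift_fac, morphismRestrict_ι]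
      have : (d ∣_ (π ⁻¹ᵁ U0)) ≫ (π ∣_ U0) = (d ⁻¹ᵁ (π ⁻¹ᵁ U0)).ι := by
        rw [← cancel_mono U0.ι, Category.assoc, morphismRestrict_ι, morphismRestrict_ι_assoc, hdπ]
      rw [reassoc_of% this]
  refine ⟨n, g.image, π, q ≫ jP, inferInstance, by rw [Category.assoc, hjp, hπp], hπ, hsurj,
    hiso, ?_, d, inferInstance, inferInstance, hdπ⟩
  -- `X' ⟶ P^n_X`
  let m : pullback f p ⟶ pullback f (CohB1.ProjSpaceOver.toBase n S) :=
    pullback.map _ _ _ _ (𝟙 X) jP (𝟙 S) (by simp) (by simp [hjp])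
  have hm : IsClosedImmersion m :=
    MorphismProperty.pullbackMap (P := @IsClosedImmersion) inferInstance inferInstance (by simp [*]) (by simp [*])
  let k : pullback f (CohB1.ProjSpaceOver.toBase n S) ⟶ CohB1.ProjSpaceOver n X :=
    poLift (pullback.snd _ _ ≫ toPZ n S) (pullback.fst _ _)
  let k' : CohB1.ProjSpaceOver n X ⟶ pullback f (CohB1.ProjSpaceOver.toBase n S) :=
    pullback.lift (CohB1.ProjSpaceOver.toBase n X)
      (poLift (toPZ n X) (CohB1.ProjSpaceOver.toBase n X ≫ f)) (by rw [poLift_toBase])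
  have : IsIso k := by
    refine ⟨⟨k', ?_, ?_⟩⟩
    · apply pullback.hom_ext
      · simp [k, k', pullback.lift_fst]
      · apply po_ext
        · simp [k, k', pullback.lift_snd_assoc]
        · simp [k, k', pullback.lift_snd_assoc, pullback.condition]
    · apply po_ext
      · simp [k, k', pullback.lift_snd_assoc]
      · simp [k, k', pullback.lift_fst]
  refine ⟨g.imageι ≫ m ≫ k, inferInstance, ?_⟩
  simp [k, m, hπdef, pullback.lift_fst]

open Classical in
/-- every point has a dense open neighbourhood which is a finite disjoint union of affines over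
affines, hence immersed into a projective space -/
theorem exists_dense_immersed (f : X ⟶ S) [LocallyOfFiniteType f]
    (hfin : (irreducibleComponents X).Finite) (x : X) :
    ∃ (U : X.Opens), x ∈ U ∧ Dense (U : Set X) ∧ IsCompact (U : Set X) ∧
      ∃ (n : ℕ) (j : U.toScheme ⟶ CohB1.ProjSpaceOver n S),
        IsImmersion j ∧ j ≫ CohB1.ProjSpaceOver.toBase n S = U.ι ≫ f := by
  have : Finite (irreducibleComponents X) := hfin.to_subtype
  have hnice : ∀ (O : X.Opens) (y : X), y ∈ O → ∃ (A : X.Opens) (V : S.Opens), y ∈ A ∧ A ≤ O ∧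
      IsAffineOpen A ∧ IsAffineOpen V ∧ A ≤ f ⁻¹ᵁ V := by
    intro O y hy
    obtain ⟨V, hV, hyV, -⟩ := exists_isAffineOpen_mem_and_subset (x := f y) (U := ⊤) trivial
    obtain ⟨A, hA, hyA, hAO⟩ :=
      exists_isAffineOpen_mem_and_subset (x := y) (U := O ⊓ f ⁻¹ᵁ V) ⟨hy, hyV⟩
    exact ⟨A, V, hyA, le_trans hAO inf_le_left, hA, hV, le_trans hAO inf_le_right⟩
  -- the parts of the components outside the others
  let G : irreducibleComponents X → X.Opens := fun C =>
    ⟨(⋃₀ (irreducibleComponents X \ {C.1}))ᶜ, by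
      rw [isOpen_compl_iff, Set.sUnion_eq_biUnion]
      exact (hfin.subset Set.diff_subset).isClosed_biUnion fun D hD =>
        isClosed_of_mem_irreducibleComponents D hD.1⟩
  have hG : ∀ C, (G C : Set X).Nonempty := by
    intro C
    by_contra h
    rw [Set.not_nonempty_iff_eq_empty] at h
    have hsub : C.1 ⊆ ⋃₀ (irreducibleComponents X \ {C.1}) := by
      intro y _
      by_contra hy
      exact h.subset (show y ∈ (G C : Set X) from hy)
    obtain ⟨D, hD, hCD⟩ := isIrreducible_iff_sUnion_isClosed.mp C.2.1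
      (hfin.subset Set.diff_subset).toFinset
      (fun D hD => isClosed_of_mem_irreducibleComponents D
        ((Set.Finite.mem_toFinset _).mp hD).1)
      (by simpa using hsub)
    obtain ⟨hD1, hD2⟩ := (Set.Finite.mem_toFinset _).mp hD
    exact hD2 (Set.mem_singleton_iff.mpr (le_antisymm (C.2.2 hD1.1 hCD) hCD))
  have hGC : ∀ C y, y ∈ G C → y ∈ C.1 := by
    intro C y hy
    by_contra hyC
    refine hy ⟨irreducibleComponent y, ⟨irreducibleComponent_mem_irreducibleComponents y, ?_⟩,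
      mem_irreducibleComponent⟩
    exact fun h => hyC (Set.mem_singleton_iff.mp h ▸ mem_irreducibleComponent)
  choose y hy using hG
  choose A V hyA hAG hA hV hAV using fun C => hnice (G C) (y C) (hy C)
  obtain ⟨B, VB, hxB, -, hB, hVB, hBV⟩ := hnice ⊤ x trivial
  -- the components whose chosen open must be added
  let K := Option {C : irreducibleComponents X // Disjoint (A C : Set X) B ∧ ¬ (C.1 ∩ B).Nonempty}
  let U : K → X.Opens := fun k => k.elim B fun C => A C.1
  let W : K → S.Opens := fun k => k.elim VB fun C => V C.1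
  have hUa : ∀ k, IsAffineOpen (U k) := by rintro (_ | C); exacts [hB, hA C.1]
  have hW : ∀ k, IsAffineOpen (W k) := by rintro (_ | C); exacts [hVB, hV C.1]
  have hUW : ∀ k, U k ≤ f ⁻¹ᵁ W k := by rintro (_ | C); exacts [hBV, hAV C.1]
  have hdisjG : ∀ C D, C ≠ D → Disjoint (G C : Set X) (G D : Set X) := by
    intro C D h
    rw [Set.disjoint_left]
    intro z hzC hzD
    exact hzD ⟨C.1, ⟨C.2, fun e => h (Subtype.ext e)⟩, hGC C z hzC⟩
  have hdisj : ∀ k l, k ≠ l → Disjoint (U k : Set X) (U l : Set X) := by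
    rintro (_ | C) (_ | D) h
    · exact (h rfl).elim
    · exact D.2.1.symm
    · exact C.2.1
    · exact (hdisjG C.1 D.1 fun e => h (congrArg some (Subtype.ext e))).mono (hAG C.1) (hAG D.1)
  let O : X.Opens := ⨆ k, U k
  have : ∀ k, IsAffine (U k).toScheme := hUa
  let g : ∀ k, (U k).toScheme ⟶ (W k).toScheme := fun k => f.resLE (W k) (U k) (hUW k)
  obtain ⟨n, φ, hφ, hφb⟩ := exists_immersion_sigma (fun k => (U k).toScheme) W hW g
  let ψ : (∐ fun k => (U k).toScheme) ⟶ X := Sigma.desc fun k => (U k).ι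
  have hψ : IsOpenImmersion ψ := isOpenImmersion_sigmaDesc _ _ fun k l hkl => by
    simpa [Function.onFun] using hdisj k l hkl
  have hψO : Set.range ψ = Set.range O.ι := by
    rw [Scheme.Opens.range_ι]
    ext z
    constructor
    · rintro ⟨w, rfl⟩
      obtain ⟨k, v, rfl⟩ := exists_sigma_eq w
      refine TopologicalSpace.Opens.mem_iSup.mpr ⟨k, ?_⟩
      rw [← Scheme.Hom.comp_apply, Sigma.ι_desc]
      exact v.2
    · intro hz
      obtain ⟨k, hk⟩ := TopologicalSpace.Opens.mem_iSup.mp hz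
      refine ⟨Sigma.ι (fun k => (U k).toScheme) k ⟨z, hk⟩, ?_⟩
      rw [← Scheme.Hom.comp_apply, Sigma.ι_desc]
      rfl
  let e := IsOpenImmersion.isoOfRangeEq ψ O.ι hψO
  refine ⟨O, TopologicalSpace.Opens.mem_iSup.mpr ⟨none, hxB⟩, ?_, ?_, n, e.inv ≫ φ, inferInstance,
    ?_⟩
  · rw [dense_iff_inter_open]
    intro Z hZ ⟨z, hz⟩
    let C : irreducibleComponents X := ⟨irreducibleComponent z,
      irreducibleComponent_mem_irreducibleComponents z⟩
    have hzC : (C.1 ∩ Z).Nonempty := ⟨z, mem_irreducibleComponent, hz⟩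
    by_cases hCB : (C.1 ∩ B).Nonempty
    · obtain ⟨w, -, hw1, hw2⟩ := C.2.1.2 Z B hZ B.isOpen hzC hCB
      exact ⟨w, hw1, TopologicalSpace.Opens.mem_iSup.mpr ⟨none, hw2⟩⟩
    · have hAB : Disjoint (A C : Set X) B := by
        rw [Set.disjoint_left]
        exact fun w hw hwB => hCB ⟨w, hGC C w (hAG C hw), hwB⟩
      obtain ⟨w, -, hw1, hw2⟩ := C.2.1.2 Z (A C) hZ (A C).isOpen hzC
        ⟨y C, hGC C _ (hy C), hyA C⟩
      exact ⟨w, hw1, TopologicalSpace.Opens.mem_iSup.mpr ⟨some ⟨C, hAB, hCB⟩, hw2⟩⟩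
  · rw [show ((O : X.Opens) : Set X) = ⋃ k, (U k : Set X) from Opens.coe_iSup _]
    exact isCompact_iUnion fun k => (hUa k).isCompact
  · rw [Category.assoc, hφb, Iso.inv_comp_eq,
      IsOpenImmersion.isoOfRangeEq_hom_fac_assoc]
    refine Sigma.hom_ext _ _ fun k => ?_
    simp [ψ, g]

/-- **Chow's lemma** for finitely many irreducible components -/
theorem chow (f : X ⟶ S) [IsSeparated f] [LocallyOfFiniteType f] [CompactSpace X]
    [QuasiSeparatedSpace X] (hfin : (irreducibleComponents X).Finite) :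
    ∃ (n : ℕ) (X' : Scheme.{u}) (π : X' ⟶ X) (j : X' ⟶ CohB1.ProjSpaceOver n S) (U0 : X.Opens),
      IsImmersion j ∧ j ≫ CohB1.ProjSpaceOver.toBase n S = π ≫ f ∧ IsProper π ∧ Surjective π ∧
      Dense (U0 : Set X) ∧ IsIso (π ∣_ U0) ∧
      (∃ i : X' ⟶ CohB1.ProjSpaceOver n X,
        IsClosedImmersion i ∧ i ≫ CohB1.ProjSpaceOver.toBase n X = π) ∧
      ∃ d : U0.toScheme ⟶ X', IsSchemeTheoreticallyDominant d ∧ QuasiCompact d ∧ d ≫ π = U0.ι := by
  classical
  choose U hxU hdU hcU N ji hji1 hji2 using exists_dense_immersed f hfin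
  obtain ⟨t, ht⟩ := isCompact_univ.elim_finite_subcover (fun x => (U x : Set X))
    (fun x => (U x).isOpen) (fun x _ => Set.mem_iUnion.mpr ⟨x, hxU x⟩)
  let e := t.equivFin.symm
  let U' : Fin t.card → X.Opens := fun i => U (e i)
  let U0 : X.Opens := Finset.univ.inf U'
  have h0 : Dense (U0 : Set X) ∧ IsCompact (U0 : Set X) := by
    refine Finset.inf_induction (p := fun V : X.Opens => Dense (V : Set X) ∧ IsCompact (V : Set X))
      ⟨dense_univ, isCompact_univ⟩ (fun A hA B hB => ?_) fun i _ => ⟨hdU _, hcU _⟩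
    exact ⟨hA.1.inter_of_isOpen_left hB.1 A.isOpen,
      QuasiSeparatedSpace.inter_isCompact _ _ A.isOpen hA.2 B.isOpen hB.2⟩
  have : CompactSpace U0.toScheme := isCompact_iff_compactSpace.mp h0.2
  have : QuasiCompact U0.ι := quasiCompact_iff_isSpectralMap.mpr
    (IsRetrocompact_iff_isSpectralMap_subtypeVal.mp fun V hVc hV =>
      QuasiSeparatedSpace.inter_isCompact _ _ U0.isOpen h0.2 hV hVc)
  have : ∀ i, IsImmersion (ji (e i)) := fun i => hji1 _
  obtain ⟨n, X', π, j, h1, h2, h3, h4, h5, h6, h7⟩ := exists_chow f U'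
    (eq_top_iff.mpr fun x _ => by
      obtain ⟨y, hy, hxy⟩ := Set.mem_iUnion₂.mp (ht (Set.mem_univ x))
      exact TopologicalSpace.Opens.mem_iSup.mpr ⟨e.symm ⟨y, hy⟩, by simpa [U'] using hxy⟩)
    (fun i => N (e i)) (fun i => ji (e i)) (fun i => hji2 _) U0
    (fun i => Finset.inf_le (Finset.mem_univ i)) h0.1
  exact ⟨n, X', π, j, U0, h1, h2, h3, h4, h0.1, h5, h6, h7⟩

end ChowLib

end
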