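import Groth.Agent.ChowLib.Embed

/-!
# Finite products of projective spaces over a base, embedded into one projective space
-/

universe u

open CategoryTheory CategoryTheory.Limits AlgebraicGeometry

noncomputable section

namespace ChowLib

theorem exists_projProd (S : Scheme.{u}) : ∀ (r : ℕ) (N : Fin r → ℕ),
    ∃ (n : ℕ) (P : Scheme.{u}) (p : P ⟶ S) (q : ∀ i, P ⟶ CohB1.ProjSpaceOver (N i) S)
      (j : P ⟶ CohB1.ProjSpaceOver n S), IsClosedImmersion j ∧
      j ≫ CohB1.ProjSpaceOver.toBase n S = p ∧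
      (∀ i, q i ≫ CohB1.ProjSpaceOver.toBase (N i) S = p) ∧
      ∀ {T : Scheme.{u}} (b : T ⟶ S) (a : ∀ i, T ⟶ CohB1.ProjSpaceOver (N i) S),
        (∀ i, a i ≫ CohB1.ProjSpaceOver.toBase (N i) S = b) →
        ∃ x : T ⟶ P, x ≫ p = b ∧ ∀ i, x ≫ q i = a i := by
  intro r
  induction r with
  | zero =>
    intro N
    let j : S ⟶ CohB1.ProjSpaceOver 0 S := poLift (pt (fun _ => 1) 0 isUnit_one) (𝟙 S)
    have hj : j ≫ CohB1.ProjSpaceOver.toBase 0 S = 𝟙 S := poLift_toBase _ _
    have : IsClosedImmersion (j ≫ CohB1.ProjSpaceOver.toBase 0 S) := by rw [hj]; infer_instance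
    exact ⟨0, S, 𝟙 S, fun i => i.elim0, j, IsClosedImmersion.of_comp j (CohB1.ProjSpaceOver.toBase 0 S),
      hj, fun i => i.elim0, fun b _ _ => ⟨b, Category.comp_id b, fun i => i.elim0⟩⟩
  | succ r ih =>
    intro N
    obtain ⟨n, P, p, q, j, hjc, hj, hq, hlift⟩ := ih (fun i => N i.succ)
    let P' := pullback p (CohB1.ProjSpaceOver.toBase (N 0) S)
    let m : P' ⟶ pullback (CohB1.ProjSpaceOver.toBase n S) (CohB1.ProjSpaceOver.toBase (N 0) S) :=
      pullback.map _ _ _ _ j (𝟙 _) (𝟙 _) (by simp [hj]) (by simp)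
    have hm : IsClosedImmersion m :=
      MorphismProperty.pullbackMap (P := @IsClosedImmersion) hjc inferInstance (by simp [*]) (by simp [*])
    let q' : ∀ i, P' ⟶ CohB1.ProjSpaceOver (N i) S :=
      Fin.cases (pullback.snd _ _) (fun i => pullback.fst _ _ ≫ q i)
    refine ⟨n * N 0 + n + N 0, P', pullback.fst _ _ ≫ p, q', m ≫ segre S n (N 0), inferInstance,
      ?_, ?_, ?_⟩
    · rw [Category.assoc, segre_toBase]
      simp [m, pullback.lift_fst_assoc, hj, P']
    · intro i
      refine Fin.cases ?_ (fun i => ?_) i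
      · exact pullback.condition.symm
      · simp [q', hq]
    · intro T b a ha
      obtain ⟨x, hx, hxq⟩ := hlift b (fun i => a i.succ) (fun i => ha i.succ)
      refine ⟨pullback.lift x (a 0) (hx.trans (ha 0).symm), by simp [P', pullback.lift_fst_assoc, hx],
        fun i => ?_⟩
      refine Fin.cases ?_ (fun i => ?_) i
      · exact pullback.lift_snd _ _ _
      · simp [q', P', pullback.lift_fst_assoc, hxq]

end ChowLib

end
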