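import Groth.Prelude.Def_CohB1
import Mathlib.AlgebraicGeometry.ProjectiveSpectrum.Proper

/-!
# Morphisms into projective space given by coordinates

`ProjPt.pt v i hu : X ⟶ P^n_ℤ` for global functions `v` on `X` with `v i` invertible.
-/

universe u

open CategoryTheory CategoryTheory.Limits AlgebraicGeometry MvPolynomial HomogeneousLocalization

noncomputable section

namespace ChowLib

/-- the base ring `ℤ` in the universe `u` -/
abbrev Z : Type u := ULift.{u} ℤ

def intMap (T : Type u) [CommRing T] : Z.{u} →+* T :=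
  (Int.castRingHom T).comp ULift.ringEquiv.toRingHom

lemma intMap_unique {T : Type u} [CommRing T] (f g : Z.{u} →+* T) : f = g := by
  have h : f.comp ULift.ringEquiv.symm.toRingHom = g.comp ULift.ringEquiv.symm.toRingHom :=
    RingHom.ext_int _ _
  refine RingHom.ext fun x => ?_
  have := RingHom.congr_fun h x.down
  exact this

variable {n : ℕ}

/-- the grading -/
abbrev gr (n : ℕ) := CohB1.polyGrading.{u} n Z.{u}

lemma X_mem (i : Fin (n + 1)) : (X i : MvPolynomial (Fin (n + 1)) Z.{u}) ∈ gr.{u} n 1 :=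
  MvPolynomial.isHomogeneous_X _ i

variable {T : Type u} [CommRing T]

/-- evaluation at `v` -/
def evalV (v : Fin (n + 1) → T) : MvPolynomial (Fin (n + 1)) Z.{u} →+* T :=
  eval₂Hom (intMap T) v

@[simp] lemma evalV_X (v : Fin (n + 1) → T) (i : Fin (n + 1)) : evalV v (X i) = v i := by
  simp [evalV]

lemma evalV_homogeneous (v : Fin (n + 1) → T) (c : T) {k : ℕ}
    (p : MvPolynomial (Fin (n + 1)) Z.{u}) (hp : p.IsHomogeneous k) :
    evalV (fun j => c * v j) p = c ^ k * evalV v p := by
  classical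
  simp only [evalV, coe_eval₂Hom, eval₂_eq, Finset.mul_sum]
  refine Finset.sum_congr rfl fun d hd => ?_
  have hdk : ∑ j ∈ d.support, d j = k := by
    have := hp (mem_support_iff.mp hd)
    simpa [Finsupp.weight_apply, Finsupp.sum] using this
  simp only [mul_pow, Finset.prod_mul_distrib, Finset.prod_pow_eq_pow_sum, hdk]
  ring

/-- evaluation of a fraction of degree `0` -/
def awayEval (v : Fin (n + 1) → T) (t : MvPolynomial (Fin (n + 1)) Z.{u})
    (hu : IsUnit (evalV v t)) : Away (gr.{u} n) t →+* T :=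
  (IsLocalization.Away.lift (S := Localization.Away t) t hu).comp
    (algebraMap (Away (gr.{u} n) t) (Localization.Away t))

lemma awayEval_mk (v : Fin (n + 1) → T) {t : MvPolynomial (Fin (n + 1)) Z.{u}} {d : ℕ}
    (ht : t ∈ gr.{u} n d) (hu : IsUnit (evalV v t)) (k : ℕ) (a : MvPolynomial (Fin (n + 1)) Z.{u})
    (ha : a ∈ gr.{u} n (k • d)) :
    awayEval v t hu (Away.mk _ ht k a ha) * evalV v t ^ k = evalV v a := by
  have h : (Away.mk (gr.{u} n) ht k a ha).val * algebraMap _ (Localization.Away t) (t ^ k) =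
      algebraMap _ (Localization.Away t) a := by
    rw [Away.val_mk, Localization.mk_eq_mk']
    exact IsLocalization.mk'_spec _ a _
  have := congrArg (IsLocalization.Away.lift (S := Localization.Away t) t hu) h
  rw [map_mul, IsLocalization.Away.lift_eq, IsLocalization.Away.lift_eq, map_pow] at this
  exact this

lemma awayEval_mul (v : Fin (n + 1) → T) {f g x : MvPolynomial (Fin (n + 1)) Z.{u}} {e : ℕ}
    (hg : g ∈ gr.{u} n e) (hx : x = f * g) (hf : IsUnit (evalV v f)) (hxu : IsUnit (evalV v x)) :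
    (awayEval v x hxu).comp (awayMap (gr.{u} n) hg hx) = awayEval v f hf := by
  ext a
  simp only [awayEval, RingHom.coe_comp, Function.comp_apply,
    HomogeneousLocalization.algebraMap_apply, val_awayMap]
  refine RingHom.congr_fun (f := (IsLocalization.Away.lift (S := Localization.Away x) x hxu).comp
    (Localization.awayLift (algebraMap _ (Localization.Away x)) f _))
    (g := IsLocalization.Away.lift (S := Localization.Away f) f hf) ?_ a.val
  apply IsLocalization.ringHom_ext (Submonoid.powers f)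
  refine RingHom.ext fun b => ?_
  simp [Localization.awayLift, IsLocalization.Away.lift_eq]

/-- the coordinate `x_j / x_i` -/
def coordRing (i j : Fin (n + 1)) : Away (gr.{u} n) (X i : MvPolynomial (Fin (n + 1)) Z.{u}) :=
  Away.mk _ (X_mem i) 1 (X j) (by simpa using X_mem j)

lemma away_hom_ext {i : Fin (n + 1)}
    {f g : Away (gr.{u} n) (X i : MvPolynomial (Fin (n + 1)) Z.{u}) →+* T}
    (h : ∀ j, f (coordRing i j) = g (coordRing i j)) : f = g := by
  ext a
  obtain ⟨k, p, hp, rfl⟩ := Away.mk_surjective _ (X_mem i) a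
  have hp' : p.IsHomogeneous k := by simpa using hp
  have key : Away.mk (gr.{u} n) (X_mem i) k p hp = evalV (fun j => coordRing i j) p := by
    apply HomogeneousLocalization.val_injective
    set L := Localization.Away (X i : MvPolynomial (Fin (n + 1)) Z.{u}) with hL
    let ι : Away (gr.{u} n) (X i : MvPolynomial (Fin (n + 1)) Z.{u}) →+* L := algebraMap _ L
    have hι : ι (evalV (fun j => coordRing i j) p) = evalV (fun j => ι (coordRing i j)) p := by
      rw [evalV, evalV, coe_eval₂Hom, coe_eval₂Hom, eval₂_comp_left]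
      congr 1
      exact intMap_unique _ _
    change _ = ι (evalV (fun j => coordRing i j) p)
    rw [hι]
    let c : L := Localization.mk 1 ⟨X i, 1, pow_one _⟩
    have hc : (fun j => ι (coordRing i j)) =
        fun j => c * algebraMap (MvPolynomial (Fin (n + 1)) Z.{u}) L (X j) := by
      funext j
      change (coordRing i j).val = _
      simp [c, L, coordRing, ← Localization.mk_one_eq_algebraMap, Localization.mk_mul]
    rw [hc, evalV_homogeneous _ c p hp']
    have ht : evalV (fun j => algebraMap (MvPolynomial (Fin (n + 1)) Z.{u}) L (X j)) p = algebraMap _ L p := by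
      refine RingHom.congr_fun (f := evalV fun j => algebraMap (MvPolynomial (Fin (n + 1)) Z.{u}) L (X j))
        (g := algebraMap (MvPolynomial (Fin (n + 1)) Z.{u}) L) ?_ p
      exact MvPolynomial.ringHom_ext'
        (intMap_unique _ _) (fun j => by simp)
    rw [ht, Away.val_mk]
    simp only [c, L, Localization.mk_pow, ← Localization.mk_one_eq_algebraMap, Localization.mk_mul]
    simp only [one_pow, one_mul, mul_one]
    congr 1
  have e : ∀ φ : Away (gr.{u} n) (X i : MvPolynomial (Fin (n + 1)) Z.{u}) →+* T,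
      φ (evalV (fun j => coordRing i j) p) = evalV (fun j => φ (coordRing i j)) p := by
    intro φ
    rw [evalV, evalV, coe_eval₂Hom, coe_eval₂Hom, eval₂_comp_left]
    congr 1
    exact intMap_unique _ _
  rw [key, e, e]
  simp only [h]

lemma awayEval_coord (v : Fin (n + 1) → T) (i j : Fin (n + 1))
    (hu : IsUnit (evalV v (X i))) : awayEval v (X i) hu (coordRing i j) * v i = v j := by
  simpa [coordRing] using awayEval_mk v (X_mem i) hu 1 (X j) (by simpa using X_mem j)

lemma awayEval_eq_iff (v w : Fin (n + 1) → T) (i : Fin (n + 1)) (hv : IsUnit (evalV v (X i)))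
    (hw : IsUnit (evalV w (X i))) :
    awayEval v (X i) hv = awayEval w (X i) hw ↔ ∀ j, v j * w i = w j * v i := by
  constructor
  · intro h j
    rw [← awayEval_coord v i j hv, ← awayEval_coord w i j hw, h]
    ring
  · intro h
    refine away_hom_ext fun j => ?_
    have hu : IsUnit (v i * w i) := by simpa using hv.mul hw
    refine hu.mul_right_cancel ?_
    linear_combination w i * awayEval_coord v i j hv - v i * awayEval_coord w i j hw + h j

/-! ### morphisms from schemes -/

variable {Y Y' : Scheme.{u}}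

/-- `Y ⟶ Spec A` from a ring map into global sections -/
def toSpecOf {A : Type u} [CommRing A] (φ : A →+* Γ(Y, ⊤)) : Y ⟶ Spec (.of A) :=
  Y.toSpecΓ ≫ Spec.map (CommRingCat.ofHom φ)

lemma toSpecOf_injective {A : Type u} [CommRing A] :
    Function.Injective (toSpecOf (Y := Y) (A := A)) := by
  intro φ ψ h
  have := congrArg (fun f : Y ⟶ Spec (.of A) => (Scheme.ΓSpecIso (.of A)).inv ≫ f.appTop) h
  simpa [toSpecOf, Scheme.toSpecΓ_appTop, CommRingCat.hom_ext_iff] using this

lemma toSpecOf_surjective {A : Type u} [CommRing A] :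
    Function.Surjective (toSpecOf (Y := Y) (A := A)) := fun f => by
  refine ⟨((Scheme.ΓSpecIso (.of A)).inv ≫ f.appTop).hom, ?_⟩
  simp [toSpecOf, ← Scheme.toSpecΓ_naturality_assoc]

lemma comp_toSpecOf {A : Type u} [CommRing A] (a : Y' ⟶ Y) (φ : A →+* Γ(Y, ⊤)) :
    a ≫ toSpecOf φ = toSpecOf (a.appTop.hom.comp φ) := by
  simp [toSpecOf, Scheme.toSpecΓ_naturality_assoc]

/-- the structure map of `P^n_ℤ` -/
abbrev PZ (n : ℕ) : Scheme.{u} := CohB1.ProjSpace n Z.{u}

/-- the standard open `D₊(x_i)` of `P^n_ℤ` -/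
def Dplus (i : Fin (n + 1)) : (PZ.{u} n).Opens := Proj.basicOpen (gr.{u} n) (X i)

/-- the chart -/
def chart (i : Fin (n + 1)) :
    Spec (.of <| Away (gr.{u} n) (X i : MvPolynomial (Fin (n + 1)) Z.{u})) ⟶ PZ.{u} n :=
  Proj.awayι (gr.{u} n) (X i) (X_mem i) one_pos

instance (i : Fin (n + 1)) : IsOpenImmersion (chart.{u} i) := by
  unfold chart; exact inferInstanceAs (IsOpenImmersion (Proj.awayι _ _ _ _))

lemma opensRange_chart (i : Fin (n + 1)) : (chart.{u} i).opensRange = Dplus i :=
  Proj.opensRange_awayι ..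

lemma isAffineOpen_Dplus (i : Fin (n + 1)) : IsAffineOpen (Dplus.{u} i) :=
  Proj.isAffineOpen_basicOpen _ _ (X_mem i) one_pos

lemma iSup_Dplus : ⨆ i, Dplus.{u} (n := n) i = ⊤ := by
  refine Proj.iSup_basicOpen_eq_top' (gr.{u} n) _ (fun i => ⟨1, X_mem i⟩) ?_
  rw [eq_top_iff]
  rintro p -
  induction p using MvPolynomial.induction_on with
  | C a =>
    exact Subalgebra.algebraMap_mem (Algebra.adjoin (gr.{u} n 0) _)
      (⟨C a, MvPolynomial.isHomogeneous_C _ a⟩ : gr.{u} n 0)
  | add p q hp hq => exact add_mem hp hq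
  | mul_X p j hp => exact mul_mem hp (Algebra.subset_adjoin ⟨j, rfl⟩)

/-- the morphism with coordinates `v`, where `v i` is invertible -/
def pt (v : Fin (n + 1) → Γ(Y, ⊤)) (i : Fin (n + 1)) (hu : IsUnit (v i)) : Y ⟶ PZ.{u} n :=
  toSpecOf (awayEval v (X i) (by simpa using hu)) ≫ chart i

lemma comp_pt (a : Y' ⟶ Y) (v : Fin (n + 1) → Γ(Y, ⊤)) (i : Fin (n + 1)) (hu : IsUnit (v i)) :
    a ≫ pt v i hu = pt (fun j => a.appTop (v j)) i (hu.map a.appTop.hom) := by
  rw [pt, pt, ← Category.assoc, comp_toSpecOf]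
  congr 2
  refine away_hom_ext fun j => ?_
  refine (hu.map a.appTop.hom).mul_right_cancel ?_
  rw [RingHom.comp_apply, ← map_mul, awayEval_coord,
    awayEval_coord (fun j => a.appTop (v j))]

lemma pt_preimage (v : Fin (n + 1) → Γ(Y, ⊤)) (i : Fin (n + 1)) (hu : IsUnit (v i))
    (j : Fin (n + 1)) : pt v i hu ⁻¹ᵁ Dplus j = Y.basicOpen (v j) := by
  change (toSpecOf _ ≫ Proj.awayι (gr.{u} n) (X i) (X_mem i) one_pos) ⁻¹ᵁ
    Proj.basicOpen (gr.{u} n) (X j) = _
  rw [Scheme.Hom.comp_preimage, Proj.awayι_preimage_basicOpen _ (X_mem i) one_pos (X_mem j) one_pos,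
    toSpecOf, Scheme.Hom.comp_preimage]
  erw [show Spec.map (CommRingCat.ofHom (awayEval v (X i) (by simpa using hu))) ⁻¹ᵁ
    PrimeSpectrum.basicOpen (Away.isLocalizationElem (X_mem i) (X_mem j)) =
    PrimeSpectrum.basicOpen (awayEval v (X i) (by simpa using hu)
      (Away.isLocalizationElem (X_mem i) (X_mem j))) from rfl]
  erw [Scheme.toSpecΓ_preimage_basicOpen]
  have hc : Away.isLocalizationElem (X_mem.{u} i) (X_mem j) = coordRing i j := by
    apply HomogeneousLocalization.val_injective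
    simp [Away.isLocalizationElem, coordRing]
  rw [hc]
  conv_rhs => rw [← awayEval_coord v i j (by simpa using hu)]
  rw [Scheme.basicOpen_mul, Y.basicOpen_of_isUnit hu, inf_top_eq]

lemma pt_change (v : Fin (n + 1) → Γ(Y, ⊤)) (i j : Fin (n + 1)) (hi : IsUnit (v i))
    (hj : IsUnit (v j)) : pt v i hi = pt v j hj := by
  have key : ∀ (a b : Fin (n + 1)) (ha : IsUnit (v a)) (x : MvPolynomial (Fin (n + 1)) Z.{u})
      (hx : x = X a * X b) (hxu : IsUnit (evalV v x)) (hxd : x ∈ gr.{u} n (1 + 1)),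
      pt v a ha = toSpecOf (awayEval v x hxu) ≫ Proj.awayι (gr.{u} n) x hxd two_pos := by
    intro a b ha x hx hxu hxd
    rw [pt, chart, toSpecOf, toSpecOf, Category.assoc, Category.assoc,
      ← awayEval_mul v (X_mem b) hx (by simpa using ha) hxu, CommRingCat.ofHom_comp,
      Spec.map_comp, Category.assoc]
    congr 2
    exact Proj.SpecMap_awayMap_awayι (gr.{u} n) (X_mem a) one_pos (X_mem b) hx
  have hu : IsUnit (evalV v (X i * X j)) := by simpa using hi.mul hj
  rw [key i j hi (X i * X j) rfl hu (SetLike.mul_mem_graded (X_mem i) (X_mem j)),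
    key j i hj (X i * X j) (mul_comm _ _) hu (SetLike.mul_mem_graded (X_mem i) (X_mem j))]

lemma pt_eq_iff_same (v w : Fin (n + 1) → Γ(Y, ⊤)) (i : Fin (n + 1)) (hv : IsUnit (v i))
    (hw : IsUnit (w i)) : pt v i hv = pt w i hw ↔ ∀ j, v j * w i = w j * v i := by
  rw [pt, pt, cancel_mono, toSpecOf_injective.eq_iff, awayEval_eq_iff]

lemma isUnit_of_basicOpen_eq_top {r : Γ(Y, ⊤)} (h : Y.basicOpen r = ⊤) : IsUnit r := by
  refine Y.toRingedSpace.isUnit_of_isUnit_germ ⊤ r fun y hy => ?_
  exact (Y.mem_basicOpen r y hy).mp (by rw [h]; trivial)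

lemma isUnit_of_pt_eq (v w : Fin (n + 1) → Γ(Y, ⊤)) (i k : Fin (n + 1)) (hv : IsUnit (v i))
    (hw : IsUnit (w k)) (h : pt v i hv = pt w k hw) : IsUnit (v k) := by
  apply isUnit_of_basicOpen_eq_top
  rw [← pt_preimage v i hv k, h, pt_preimage, Y.basicOpen_of_isUnit hw]

lemma prop_of_pt_eq (v w : Fin (n + 1) → Γ(Y, ⊤)) (i k : Fin (n + 1)) (hv : IsUnit (v i))
    (hw : IsUnit (w k)) (h : pt v i hv = pt w k hw) (j : Fin (n + 1)) :
    v j * w k = w j * v k := by
  have hk := isUnit_of_pt_eq v w i k hv hw h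
  rw [pt_change v i k hv hk, pt_eq_iff_same] at h
  exact h j

lemma pt_eq_of_prop (v w : Fin (n + 1) → Γ(Y, ⊤)) (i k : Fin (n + 1)) (hv : IsUnit (v i))
    (hw : IsUnit (w k)) (hk : IsUnit (v k)) (h : ∀ j, v j * w k = w j * v k) :
    pt v i hv = pt w k hw := by
  rw [pt_change v i k hv hk, pt_eq_iff_same]
  exact h

lemma exists_pt (a : Y ⟶ PZ.{u} n) (i : Fin (n + 1)) (h : a ⁻¹ᵁ Dplus i = ⊤) :
    ∃ (v : Fin (n + 1) → Γ(Y, ⊤)) (hu : IsUnit (v i)), a = pt v i hu ∧ v i = 1 := by
  have hr : Set.range a ⊆ Set.range (chart.{u} i) := by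
    rintro _ ⟨y, rfl⟩
    have hy : y ∈ a ⁻¹ᵁ Dplus i := by rw [h]; trivial
    rw [← opensRange_chart] at hy
    exact hy
  obtain ⟨φ, hφ⟩ := toSpecOf_surjective (IsOpenImmersion.lift (chart i) a hr)
  have h1 : φ (coordRing i i) = 1 := by
    rw [show coordRing.{u} i i = 1 from HomogeneousLocalization.val_injective _ (by
      simp [coordRing, Localization.mk_eq_mk']), map_one]
  refine ⟨fun j => φ (coordRing i j), by simp [h1], ?_, h1⟩
  rw [pt, ← IsOpenImmersion.lift_fac (chart i) a hr, ← hφ]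
  congr 2
  refine away_hom_ext fun j => ?_
  have := awayEval_coord (fun j => φ (coordRing i j)) i j (by simp [h1])
  simpa [h1] using this.symm

end ChowLib

end
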