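import Groth.Agent.ChowLib.Chow

/-!
# Disjoint unions inside projective space; Chow's lemma without finiteness of components
-/

universe u

open CategoryTheory CategoryTheory.Limits AlgebraicGeometry TopologicalSpace

noncomputable section

namespace ChowLib

/-- finitely many schemes immersed in projective spaces over `S`: their disjoint union immerses
in a single one -/
theorem exists_immersion_union {S : Scheme.{u}} {r : ℕ} (Y : ULift.{u} (Fin r) → Scheme.{u})
    (N : Fin r → ℕ) (φ : ∀ k, Y k ⟶ CohB1.ProjSpaceOver (N k.down) S) [∀ k, IsImmersion (φ k)] :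
    ∃ (n : ℕ) (ψ : (∐ Y) ⟶ CohB1.ProjSpaceOver n S), IsImmersion ψ ∧
      ψ ≫ CohB1.ProjSpaceOver.toBase n S =
        Sigma.desc fun k => φ k ≫ CohB1.ProjSpaceOver.toBase (N k.down) S := by
  classical
  obtain ⟨n, P, p, q, j, hjc, hj, hq, hlift⟩ := exists_projProd S (r + 1) (Fin.snoc N r)
  let b : ∀ k, Y k ⟶ S := fun k => φ k ≫ CohB1.ProjSpaceOver.toBase (N k.down) S
  -- the last coordinate: the point `e_k` of `P^r_ℤ`
  let e : ∀ k, Y k ⟶ PZ.{u} r := fun k =>
    pt (fun l => if l = k.down.succ then 1 else 0) k.down.succ (by simp)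
  have he : ∀ k l, e k ⁻¹ᵁ Dplus l.succ = if k.down = l then ⊤ else ⊥ := by
    intro k l
    simp only [e, pt_preimage, Fin.succ_inj]
    by_cases h : l = k.down
    · simp [h, Scheme.basicOpen_of_isUnit]
    · simp [h, Ne.symm h, Scheme.basicOpen_zero]
  have hlast : Fin.snoc (α := fun _ => ℕ) N r (Fin.last r) = r := Fin.snoc_last _ _
  have hcast : ∀ i, Fin.snoc (α := fun _ => ℕ) N r (Fin.castSucc i) = N i :=
    fun i => Fin.snoc_castSucc _ _ _
  have mk : ∀ (k : ULift.{u} (Fin r)) (a : Fin (r + 1)),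
      ∃ x : Y k ⟶ CohB1.ProjSpaceOver (Fin.snoc (α := fun _ => ℕ) N r a) S,
        x ≫ CohB1.ProjSpaceOver.toBase _ S = b k ∧
        (∀ h : a = Fin.castSucc k.down, x ≫ eqToHom (by rw [h, hcast]) = φ k) ∧
        (∀ h : a = Fin.last r, x ≫ eqToHom (by rw [h, hlast]) = poLift (e k) (b k)) := by
    intro k a
    have tb : ∀ {m m' : ℕ} (h : m = m'), eqToHom (congrArg (fun m => CohB1.ProjSpaceOver m S) h) ≫
        CohB1.ProjSpaceOver.toBase m' S = CohB1.ProjSpaceOver.toBase m S := by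
      rintro m _ rfl; simp
    by_cases h1 : a = Fin.castSucc k.down
    · subst h1
      refine ⟨φ k ≫ eqToHom (by rw [hcast]), ?_, fun _ => by simp,
        fun h => ((Fin.castSucc_lt_last _).ne h).elim⟩
      rw [Category.assoc, tb (hcast k.down).symm]
    · by_cases h2 : a = Fin.last r
      · subst h2
        refine ⟨poLift (e k) (b k) ≫ eqToHom (by rw [hlast]), ?_, fun h => (h1 h).elim,
          fun _ => by simp⟩
        rw [Category.assoc, tb hlast.symm, poLift_toBase]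
      · exact ⟨poLift (pt (fun _ => 1) 0 isUnit_one) (b k), poLift_toBase _ _, fun h => (h1 h).elim,
          fun h => (h2 h).elim⟩
  choose x hxb hxφ hxe using mk
  choose y hyp hyq using fun k => hlift (b k) (x k) (hxb k)
  have himm : ∀ k, IsImmersion (y k) := by
    intro k
    let t : CohB1.ProjSpaceOver (Fin.snoc (α := fun _ => ℕ) N r (Fin.castSucc k.down)) S ⟶
      CohB1.ProjSpaceOver (N k.down) S := eqToHom (by rw [hcast])
    have : IsImmersion (y k ≫ q (Fin.castSucc k.down) ≫ t) := by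
      rw [← Category.assoc, hyq, hxφ k _ rfl]; infer_instance
    exact IsImmersion.of_comp (y k) (q (Fin.castSucc k.down) ≫ t)
  let last : P ⟶ PZ.{u} r := q (Fin.last r) ≫
    eqToHom (congrArg (fun m => CohB1.ProjSpaceOver m S) hlast) ≫ toPZ r S
  have hlastk : ∀ k, y k ≫ last = e k := by
    intro k
    simp only [last, ← Category.assoc]
    rw [hyq, hxe k _ rfl, poLift_toPZ]
  let y' : (∐ Y) ⟶ P := Sigma.desc y
  refine ⟨n, y' ≫ j, ?_, ?_⟩
  swap
  · rw [Category.assoc, hj]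
    refine Sigma.hom_ext _ _ fun k => ?_
    simp [y', hyp, b]
  have hpre : ∀ l, (y' ≫ last) ⁻¹ᵁ Dplus l.succ = (Sigma.ι Y ⟨l⟩).opensRange := by
    intro l
    ext z
    obtain ⟨k, w, rfl⟩ := exists_sigma_eq z
    have hw : Sigma.ι Y k w ∈ (y' ≫ last) ⁻¹ᵁ Dplus l.succ ↔ k.down = l := by
      change w ∈ (Sigma.ι Y k ≫ y' ≫ last) ⁻¹ᵁ Dplus l.succ ↔ _
      rw [Sigma.ι_desc_assoc, hlastk, he]
      split_ifs with h <;> simp [h]
    refine hw.trans ⟨fun h => ?_, fun ⟨w', hw'⟩ => ?_⟩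
    · subst h; exact ⟨w, rfl⟩
    · exact congrArg ULift.down (congrArg Sigma.fst ((sigmaι_eq_iff Y _ _ _ _).mp hw')).symm
  have hy' : IsImmersion y' := by
    let O : Fin r → P.Opens := fun l => last ⁻¹ᵁ Dplus l.succ
    let V : P.Opens := ⨆ l, O l
    have hr : Set.range y' ⊆ Set.range V.ι := by
      rintro _ ⟨z, rfl⟩
      rw [Scheme.Opens.range_ι]
      obtain ⟨k, w, rfl⟩ := exists_sigma_eq z
      exact TopologicalSpace.Opens.mem_iSup.mpr ⟨k.down, (hpre k.down).ge ⟨w, rfl⟩⟩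
    let y'' := IsOpenImmersion.lift V.ι y' hr
    have hy'' : y'' ≫ V.ι = y' := IsOpenImmersion.lift_fac _ _ _
    have : IsImmersion y'' := by
      refine IsZariskiLocalAtTarget.of_iSup_eq_top (P := @IsImmersion) (fun l => V.ι ⁻¹ᵁ O l)
        (by rw [← Scheme.Hom.preimage_iSup]; ext z; simp [V]) fun l => ?_
      have hp : y'' ⁻¹ᵁ (V.ι ⁻¹ᵁ O l) = (Sigma.ι Y ⟨l⟩).opensRange := by
        rw [← Scheme.Hom.comp_preimage, hy'']; exact hpre l
      have hr' : Set.range (Sigma.ι Y ⟨l⟩ ≫ y'') ⊆ Set.range (V.ι ⁻¹ᵁ O l).ι := by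
        rintro _ ⟨w, rfl⟩
        rw [Scheme.Opens.range_ι]
        exact hp.ge ⟨w, rfl⟩
      let g := IsOpenImmersion.lift (V.ι ⁻¹ᵁ O l).ι (Sigma.ι Y ⟨l⟩ ≫ y'') hr'
      have : IsImmersion (g ≫ (V.ι ⁻¹ᵁ O l).ι ≫ V.ι) := by
        rw [IsOpenImmersion.lift_fac_assoc, Category.assoc, hy'', Sigma.ι_desc]; exact himm _
      have : IsImmersion g := IsImmersion.of_comp g ((V.ι ⁻¹ᵁ O l).ι ≫ V.ι)
      refine restrict_of_isPullback (P := @IsImmersion) (g := g) (iU := Sigma.ι Y ⟨l⟩) ?_ this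
      exact IsOpenImmersion.isPullback g (Sigma.ι Y ⟨l⟩) (V.ι ⁻¹ᵁ O l).ι y''
        (IsOpenImmersion.lift_fac _ _ _).symm (by rw [Scheme.Opens.opensRange_ι]; exact hp)
    rw [← hy'']
    infer_instance
  infer_instance

variable {X S : Scheme.{u}}

/-- every point of a scheme of finite type over `S` has an affine neighbourhood immersed into a
projective space -/
theorem exists_affine_immersed (f : X ⟶ S) [LocallyOfFiniteType f] (x : X) :
    ∃ (U : X.Opens), x ∈ U ∧ IsAffineOpen U ∧ ∃ (n : ℕ) (j : U.toScheme ⟶ CohB1.ProjSpaceOver n S),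
      IsImmersion j ∧ j ≫ CohB1.ProjSpaceOver.toBase n S = U.ι ≫ f := by
  obtain ⟨V, hV, hyV, -⟩ := exists_isAffineOpen_mem_and_subset (x := f x) (U := ⊤) trivial
  obtain ⟨A, hA, hxA, hAV⟩ :=
    exists_isAffineOpen_mem_and_subset (x := x) (U := f ⁻¹ᵁ V) hyV
  have : IsAffine A.toScheme := hA
  let U : PUnit.{u + 1} → Scheme.{u} := fun _ => A.toScheme
  obtain ⟨n, φ, hφ, hφb⟩ := exists_immersion_sigma U (fun _ => V) (fun _ => hV)
    (fun _ => f.resLE V A hAV)
  let ψ : (∐ U) ⟶ A.toScheme := Sigma.desc fun _ => 𝟙 _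
  have : IsIso ψ := by
    refine ⟨Sigma.ι U PUnit.unit, Sigma.hom_ext _ _ fun k => ?_, Sigma.ι_desc _ _⟩
    cases k; simp [ψ]
  refine ⟨A, hxA, hA, n, inv ψ ≫ φ, inferInstance, ?_⟩
  rw [Category.assoc, hφb, IsIso.inv_comp_eq]
  refine Sigma.hom_ext _ _ fun k => ?_
  simp [ψ]

/-- Chow's lemma on a closed subscheme with a schematically dense open contained in all members of
an immersed cover of it -/
theorem exists_chow_piece (f : X ⟶ S) [IsSeparated f] [QuasiSeparatedSpace X] {r : ℕ}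
    (U : Fin r → X.Opens)
    (N : Fin r → ℕ) (ji : ∀ i, (U i).toScheme ⟶ CohB1.ProjSpaceOver (N i) S)
    [∀ i, IsImmersion (ji i)]
    (hji : ∀ i, ji i ≫ CohB1.ProjSpaceOver.toBase (N i) S = (U i).ι ≫ f)
    {Y : Scheme.{u}} [CompactSpace Y] (i : Y ⟶ X) [QuasiCompact i] [IsImmersion i]
    (hi : Set.range i ⊆ ⋂ a, (U a : Set X)) (hcov : closure (Set.range i) ⊆ ⋃ a, (U a : Set X)) :
    ∃ (n : ℕ) (X' : Scheme.{u}) (π : X' ⟶ X) (j : X' ⟶ CohB1.ProjSpaceOver n S),
      IsImmersion j ∧ j ≫ CohB1.ProjSpaceOver.toBase n S = π ≫ f ∧ IsProper π ∧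
      Set.range π = closure (Set.range i) ∧
      (∃ e : X' ⟶ CohB1.ProjSpaceOver n X,
        IsClosedImmersion e ∧ e ≫ CohB1.ProjSpaceOver.toBase n X = π) ∧
      (∀ W : X.Opens, i ⁻¹ᵁ W = ⊤ → IsIso (i ∣_ W) → IsIso (π ∣_ W)) := by
  -- the scheme-theoretic closure
  let C := i.image
  let c : C ⟶ X := i.imageι
  have hrc : Set.range c = closure (Set.range i) := by
    rw [← Scheme.Hom.support_ker]
    exact i.ker.range_subschemeι
  let U' : Fin r → C.Opens := fun a => c ⁻¹ᵁ U a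
  have hU' : ⨆ a, U' a = ⊤ := by
    rw [eq_top_iff]
    intro z _
    obtain ⟨a, ha⟩ := Set.mem_iUnion.mp (hcov (hrc ▸ Set.mem_range_self z))
    exact TopologicalSpace.Opens.mem_iSup.mpr ⟨a, ha⟩
  let ji' : ∀ a, (U' a).toScheme ⟶ CohB1.ProjSpaceOver (N a) S := fun a => (c ∣_ U a) ≫ ji a
  have hji' : ∀ a, ji' a ≫ CohB1.ProjSpaceOver.toBase (N a) S = (U' a).ι ≫ c ≫ f := fun a => by
    simp [ji', hji, U', morphismRestrict_ι_assoc]
  let U0 : C.Opens := i.toImage.opensRange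
  have hU0 : ∀ a, U0 ≤ U' a := by
    rintro a _ ⟨y, rfl⟩
    change c (i.toImage y) ∈ U a
    rw [← Scheme.Hom.comp_apply, Scheme.Hom.toImage_imageι]
    exact Set.mem_iInter.mp (hi ⟨y, rfl⟩) a
  let e0 := IsOpenImmersion.isoOfRangeEq i.toImage U0.ι (by rw [Scheme.Opens.range_ι]; rfl)
  have : QuasiCompact U0.ι := by
    have : U0.ι = e0.inv ≫ i.toImage := by simp [e0]
    rw [this]; infer_instance
  have hd : Dense (U0 : Set C) := i.toImage.denseRange
  obtain ⟨n, X', π, j, hj, hjb, hπ, hπs, hπiso, ⟨e, he, heb⟩, -⟩ :=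
    exists_chow (c ≫ f) U' hU' N ji' hji' U0 hU0 hd
  refine ⟨n, X', π ≫ c, j, hj, by rw [hjb, Category.assoc], inferInstance, ?_, ?_, ?_⟩
  · rw [Scheme.Hom.comp_base, TopCat.coe_comp, Set.range_comp, hπs.surj.range_eq, Set.image_univ]
    exact hrc
  · -- `P^n_C ⟶ P^n_X` is a closed immersion
    let m : CohB1.ProjSpaceOver n C ⟶ CohB1.ProjSpaceOver n X :=
      poLift (toPZ n C) (CohB1.ProjSpaceOver.toBase n C ≫ c)
    have hsq : IsPullback m (CohB1.ProjSpaceOver.toBase n C) (CohB1.ProjSpaceOver.toBase n X) c := by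
      refine IsPullback.of_right ?_ (poLift_toBase _ _) (isPullback_po n X)
      rw [poLift_toPZ, specULiftZIsTerminal.hom_ext (c ≫ specULiftZIsTerminal.from X)
        (specULiftZIsTerminal.from C)]
      exact isPullback_po n C
    have : IsClosedImmersion m := MorphismProperty.of_isPullback hsq.flip inferInstance
    exact ⟨e ≫ m, inferInstance, by simp [m, reassoc_of% heb]⟩
  · intro W hW hiW
    have hcW : c ⁻¹ᵁ W = U0 := by
      apply le_antisymm
      · intro z hz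
        have hzc : c z ∈ closure (Set.range i) := hrc ▸ Set.mem_range_self z
        have hb : Function.Surjective (i ∣_ W) :=
          ((Scheme.forgetToTop ⋙ forget TopCat).mapIso (asIso (i ∣_ W))).toEquiv.surjective
        obtain ⟨w, hw⟩ := hb ⟨c z, hz⟩
        refine ⟨w.1, c.isClosedEmbedding.injective ?_⟩
        rw [← Scheme.Hom.comp_apply, Scheme.Hom.toImage_imageι]
        simpa using congrArg Subtype.val hw
      · rintro _ ⟨y, rfl⟩
        change c (i.toImage y) ∈ W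
        rw [← Scheme.Hom.comp_apply, Scheme.Hom.toImage_imageι]
        exact hW.ge trivial
    have hc : IsIso (c ∣_ W) := by
      let s : (i ⁻¹ᵁ W).toScheme ⟶ (c ⁻¹ᵁ W).toScheme :=
        (IsOpenImmersion.isoOfRangeEq ((i ⁻¹ᵁ W).ι ≫ i.toImage) (c ⁻¹ᵁ W).ι (by
          rw [Scheme.Hom.comp_base, TopCat.coe_comp, Set.range_comp, Scheme.Opens.range_ι,
            Scheme.Opens.range_ι, hW, hcW, TopologicalSpace.Opens.coe_top, Set.image_univ]
          rfl)).hom
      have e : s ≫ (c ∣_ W) = i ∣_ W := by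
        rw [← cancel_mono W.ι, Category.assoc, morphismRestrict_ι, morphismRestrict_ι,
          IsOpenImmersion.isoOfRangeEq_hom_fac_assoc, Category.assoc, Scheme.Hom.toImage_imageι]
      have : IsIso (s ≫ (c ∣_ W)) := by rw [e]; exact hiW
      exact IsIso.of_isIso_comp_left s _
    rw [morphismRestrict_comp]
    have : IsIso (π ∣_ (c ⁻¹ᵁ W)) := by rw [hcW]; exact hπiso
    exact IsIso.comp_isIso' this hc

/-- finitely many morphisms to `X`, each closed in a projective space over `X`: so is their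
coproduct, in particular it is proper -/
theorem exists_closedImmersion_union {r : ℕ} (Y : ULift.{u} (Fin r) → Scheme.{u}) (N : Fin r → ℕ)
    (e : ∀ k, Y k ⟶ CohB1.ProjSpaceOver (N k.down) X) [∀ k, IsClosedImmersion (e k)]
    (π : ∀ k, Y k ⟶ X) (he : ∀ k, e k ≫ CohB1.ProjSpaceOver.toBase (N k.down) X = π k) :
    ∃ (n : ℕ) (ψ : (∐ Y) ⟶ CohB1.ProjSpaceOver n X), IsClosedImmersion ψ ∧
      ψ ≫ CohB1.ProjSpaceOver.toBase n X = Sigma.desc π := by
  obtain ⟨n, ψ, hψ, hψb⟩ := exists_immersion_union Y N e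
  have hb : ψ ≫ CohB1.ProjSpaceOver.toBase n X = Sigma.desc π := by
    rw [hψb]; simp only [he]
  refine ⟨n, ψ, ?_, hb⟩
  have hcl : IsClosed (Set.range ψ) := by
    have : Set.range ψ = ⋃ k, Set.range (Sigma.ι Y k ≫ ψ) := by
      ext z
      constructor
      · rintro ⟨w, rfl⟩
        obtain ⟨k, v, rfl⟩ := exists_sigma_eq w
        exact Set.mem_iUnion.mpr ⟨k, v, rfl⟩
      · intro h
        obtain ⟨k, v, rfl⟩ := Set.mem_iUnion.mp h
        exact ⟨Sigma.ι Y k v, rfl⟩
    rw [this]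
    refine isClosed_iUnion_of_finite fun k => ?_
    have : IsProper ((Sigma.ι Y k ≫ ψ) ≫ CohB1.ProjSpaceOver.toBase n X) := by
      rw [Category.assoc, hb, Sigma.ι_desc, ← he]; infer_instance
    have : IsProper (Sigma.ι Y k ≫ ψ) :=
      IsProper.of_comp (Sigma.ι Y k ≫ ψ) (CohB1.ProjSpaceOver.toBase n X)
    exact (Sigma.ι Y k ≫ ψ).isClosedMap.isClosed_range
  rw [IsClosedImmersion.iff_isPreimmersion]
  exact ⟨inferInstance, hcl⟩

end ChowLib

end
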